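import Cfsg.Agent.Lib.Chev.E7Alt.Data
import Cfsg.Agent.Lib.Chev.AltSection.Exponents
import Cfsg.Agent.Lib.Chev.FullE7

/-!
Coordinates of toral vectors of type E7 in a subsystem of type A7, sorting by words, and the joint counts of
values at the fifty-six weights.
-/

set_option autoImplicit false
set_option maxRecDepth 100000

namespace Cfsg.Lib.Chev.E7Alt

open Cfsg.Lie Cfsg.Lib.Chev.AltSection

/-- The certificate of type E7. -/
theorem cert7 : Cert chevE7 tblE7 := fullCertE7.comm.cert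

/-- Vectors on the simple roots. -/
abbrev Vt (R : Type*) := Fin chevE7.rank → R

/-- The action of a word. -/
noncomputable abbrev act7 {R : Type*} [CommRing R] (u : List ℕ) (v : Vt R) : Vt R := act chevE7 tblE7 u v

theorem cart_lin : CartLin chevE7 tblE7 := by
  show ∀ j < 7, ∀ r < 126, tblE7.cartan j r = ∑ k : Fin 7, tblE7.coroot r k * tblE7.cartan j (tblE7.simp' k)
  decide +kernel

/-! ### Coordinates -/

/-- A coefficient of a coordinate. -/
def bC (i : ℕ) (k : ℕ) : ℤ := (cB.getD i []).getD k 0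

/-- A coordinate. -/
noncomputable def cA {R : Type*} [CommRing R] (ι : R) (v : Vt R) (i : ℕ) : R :=
  ι * ∑ k : Fin chevE7.rank, (bC i k : R) * v k

/-- The coordinates as numbers. -/
noncomputable def clist {ℓ : ℕ} (ι : ZMod ℓ) (v : Vt (ZMod ℓ)) : List ℕ :=
  (List.range 8).map fun i => (cA ι v i).val

/-- The vector with given coordinates. -/
def vecL (ℓ : ℕ) (c : List ℕ) : Vt (ZMod ℓ) :=
  fun k => ∑ i : Fin 8, (((cV.getD k []).getD i 0 : ℤ) : ZMod ℓ) * ((c.getD i 0 : ℕ) : ZMod ℓ)

theorem cV_chk : ∀ k l : Fin chevE7.rank, (∑ i : Fin 8, (cV.getD k []).getD i 0 * bC i l) = if k = l then 8 else 0 := by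
  show ∀ k l : Fin 7, _
  decide +kernel

theorem clist_getD {ℓ : ℕ} (ι : ZMod ℓ) (v : Vt (ZMod ℓ)) {i : ℕ} (hi : i < 8) :
    (clist ι v).getD i 0 = (cA ι v i).val := by
  simp [clist, hi]

theorem vecL_clist {ℓ : ℕ} [NeZero ℓ] {ι : ZMod ℓ} (hι : ι * 8 = 1) (v : Vt (ZMod ℓ)) :
    vecL ℓ (clist ι v) = v := by
  funext k
  have h : ∀ i : Fin 8, (((clist ι v).getD i 0 : ℕ) : ZMod ℓ) = cA ι v i := fun i => by
    rw [clist_getD ι v i.2, ZMod.natCast_zmod_val]
  simp only [vecL, h, cA, Finset.mul_sum]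
  rw [Finset.sum_comm]
  have hl : ∀ l : Fin chevE7.rank, (∑ i : Fin 8,
      (((cV.getD k []).getD i 0 : ℤ) : ZMod ℓ) * (ι * ((bC i l : ℤ) * v l))) = if k = l then v l else 0 := by
    intro l
    have e := congrArg (fun z : ℤ => ((z : ℤ) : ZMod ℓ)) (cV_chk k l)
    simp only [Int.cast_sum, Int.cast_mul] at e
    calc _ = ι * (∑ i : Fin 8, (((cV.getD k []).getD i 0 : ℤ) : ZMod ℓ) * (bC i l : ZMod ℓ)) * v l := by
          rw [Finset.mul_sum, Finset.sum_mul]
          exact Finset.sum_congr rfl fun i _ => by ring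
      _ = _ := by
          rw [e]
          split_ifs with h'
          · push_cast; rw [hι, one_mul]
          · simp
  simp only [hl]
  simp

theorem swW_chk : ∀ i : Fin 7, (∀ a ∈ swW.getD i [], a < chevE7.rank) ∧ ∀ j : Fin 8, ∀ l : Fin chevE7.rank,
    (∑ k : Fin chevE7.rank, bC j k * tblE7.coroot (wperm tblE7 (swW.getD i []) (tblE7.simp' k)) l) =
      bC (Equiv.swap i.castSucc i.succ j) l := by
  show ∀ i : Fin 7, (∀ a ∈ swW.getD i [], a < 7) ∧ ∀ j : Fin 8, ∀ l : Fin 7,
    (∑ k : Fin 7, bC j k * tblE7.coroot (wperm tblE7 (swW.getD i []) (tblE7.simp' k)) l) = _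
  decide +kernel

theorem cA_swap {R : Type*} [CommRing R] (ι : R) (i : Fin 7) (v : Vt R) (j : Fin 8) :
    cA ι (act7 (swW.getD i []) v) j = cA ι v (Equiv.swap i.castSucc i.succ j : Fin 8) := by
  simp only [cA, act7, act, AltSection.val, Finset.mul_sum]
  rw [Finset.sum_comm]
  refine Finset.sum_congr rfl fun l _ => ?_
  rw [← (swW_chk i).2 j l, Int.cast_sum, Finset.sum_mul, Finset.mul_sum]
  exact Finset.sum_congr rfl fun k _ => by push_cast; ring

/-- Words sort the coordinates of finitely many vectors by a key. -/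
theorem exists_sorted {R : Type*} [CommRing R] (ι : R) (vs : List (Vt R)) (key : List R → ℕ) :
    ∃ u, IsWord chevE7 u ∧ ∃ σ : Equiv.Perm (Fin 8), (∀ v ∈ vs, ∀ i : Fin 8, cA ι (act7 u v) i = cA ι v (σ i)) ∧
      ∀ i : Fin 7, key (vs.map fun v => cA ι (act7 u v) (i.castSucc : Fin 8)) ≤
        key (vs.map fun v => cA ι (act7 u v) (i.succ : Fin 8)) := by
  classical
  let S : Finset (Equiv.Perm (Fin 8)) := Finset.univ.filter fun σ =>
    ∃ u, IsWord chevE7 u ∧ ∀ v ∈ vs, ∀ i : Fin 8, cA ι (act7 u v) i = cA ι v (σ i)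
  have hS : S.Nonempty := ⟨1, Finset.mem_filter.2 ⟨Finset.mem_univ _, [], fun a ha => absurd ha List.not_mem_nil,
    fun v _ i => by rw [show act7 [] v = v from act_nil cert7 v]; rfl⟩⟩
  let K : Equiv.Perm (Fin 8) → Fin 8 → ℕ := fun σ i => key (vs.map fun v => cA ι v (σ i))
  obtain ⟨σ, hσ, hmax⟩ := S.exists_max_image (fun σ => ∑ i : Fin 8, (i : ℕ) * K σ i) hS
  obtain ⟨u, hu, huv⟩ := (Finset.mem_filter.1 hσ).2
  refine ⟨u, hu, σ, huv, fun i => ?_⟩
  rw [show (vs.map fun v => cA ι (act7 u v) (i.castSucc : Fin 8)) = vs.map fun v => cA ι v (σ i.castSucc) from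
      List.map_congr_left fun v hv => huv v hv _,
    show (vs.map fun v => cA ι (act7 u v) (i.succ : Fin 8)) = vs.map fun v => cA ι v (σ i.succ) from
      List.map_congr_left fun v hv => huv v hv _]
  show K σ i.castSucc ≤ K σ i.succ
  by_contra hlt
  rw [not_le] at hlt
  have hw : IsWord chevE7 (swW.getD i []) := (swW_chk i).1
  have hmem : σ * Equiv.swap i.castSucc i.succ ∈ S := Finset.mem_filter.2 ⟨Finset.mem_univ _, u ++ swW.getD i [],
    hu.append hw, fun v hv j => by
      rw [show act7 (u ++ swW.getD i []) v = act7 (swW.getD i []) (act7 u v) from act_append cert7 hu hw v,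
        cA_swap, huv v hv]
      rfl⟩
  have h := hmax _ hmem
  have hK : ∀ j, K (σ * Equiv.swap i.castSucc i.succ) j = K σ (Equiv.swap i.castSucc i.succ j) := fun j => rfl
  simp only [hK] at h
  fin_cases i <;> simp [Fin.sum_univ_eight, Equiv.swap_apply_def] at h hlt ⊢ <;> omega

theorem clist_perm {ℓ : ℕ} {ι : ZMod ℓ} {v w : Vt (ZMod ℓ)} {σ : Equiv.Perm (Fin 8)}
    (h : ∀ i : Fin 8, cA ι w i = cA ι v (σ i)) : (clist ι w).Perm (clist ι v) := by
  have e : ∀ x : Vt (ZMod ℓ), clist ι x = List.ofFn fun i : Fin 8 => (cA ι x i).val := fun x => by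
    rw [List.ofFn_eq_map, clist, ← List.map_coe_finRange_eq_range, List.map_map]
    rfl
  rw [e, e, show (fun i : Fin 8 => (cA ι w i).val) = (fun i : Fin 8 => (cA ι v i).val) ∘ σ from
    funext fun i => congrArg ZMod.val (h i)]
  exact Equiv.Perm.ofFn_comp_perm σ _

/-! ### Joint counts at the weights -/

/-- The value at a weight of a coordinate function. -/
def sgnSum {R : Type*} [CommRing R] (f : ℕ → R) (p : ℕ × ℕ × Bool) : R :=
  if p.2.2 then -(f p.1 + f p.2.1) else f p.1 + f p.2.1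

/-- The values of vectors at the weights. -/
noncomputable def joint {R : Type*} [CommRing R] (ι : R) (vs : List (Vt R)) : List (List R) :=
  pL.map fun p => vs.map fun v => sgnSum (cA ι v) p

/-- A coefficient of a weight. -/
def wC (a k : ℕ) : ℤ := sgnSum (fun i => bC i k) (pL.getD a (0, 0, false))

theorem wtR_chk : ∀ i < 7, (wtR.getD i []).Perm (List.range 56) ∧ ∀ a < 56, ∀ l : Fin chevE7.rank,
    (∑ k : Fin chevE7.rank, wC a k * tblE7.coroot (tblE7.refl' i (tblE7.simp' k)) l) =
      wC ((wtR.getD i []).getD a 0) l := by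
  show ∀ i < 7, (wtR.getD i []).Perm (List.range 56) ∧ ∀ a < 56, ∀ l : Fin 7,
    (∑ k : Fin 7, wC a k * tblE7.coroot (tblE7.refl' i (tblE7.simp' k)) l) = _
  decide +kernel

theorem sgnSum_cA {R : Type*} [CommRing R] (ι : R) (v : Vt R) (a : ℕ) :
    sgnSum (cA ι v) (pL.getD a (0, 0, false)) = ι * ∑ k : Fin chevE7.rank, (wC a k : R) * v k := by
  simp only [sgnSum, wC, cA]
  split_ifs
  · push_cast
    rw [← mul_add, ← Finset.sum_add_distrib, ← mul_neg, ← Finset.sum_neg_distrib]
    exact congrArg _ (Finset.sum_congr rfl fun k _ => by ring)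
  · push_cast
    rw [← mul_add, ← Finset.sum_add_distrib]
    exact congrArg _ (Finset.sum_congr rfl fun k _ => by ring)

theorem pL_map {α : Type*} (f : ℕ × ℕ × Bool → α) :
    pL.map f = (List.range 56).map fun a => f (pL.getD a (0, 0, false)) := by
  have e : pL = (List.range 56).map fun a => pL.getD a (0, 0, false) := by decide +kernel
  conv_lhs => rw [e, List.map_map]
  rfl

theorem joint_act {R : Type*} [CommRing R] (ι : R) : ∀ {u : List ℕ}, IsWord chevE7 u → ∀ vs : List (Vt R),
    (joint ι (vs.map fun v => act7 u v)).Perm (joint ι vs)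
  | [], _, vs => by
    rw [show (vs.map fun v => act7 [] v) = vs from
      (List.map_congr_left fun v _ => act_nil cert7 v).trans vs.map_id]
  | i :: u, hu, vs => by
    have h1 : IsWord chevE7 [i] := fun x hx => by rw [List.mem_singleton] at hx; rw [hx]; exact hu i List.mem_cons_self
    rw [show (vs.map fun v => act7 (i :: u) v) = (vs.map fun v => act7 [i] v).map fun v => act7 u v by
      rw [List.map_map]
      exact List.map_congr_left fun v _ => act_append cert7 h1 hu.tail.2 v]
    refine (joint_act ι hu.tail.2 _).trans ?_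
    obtain ⟨hp, hc⟩ := wtR_chk i (hu i List.mem_cons_self)
    simp only [joint, pL_map, List.map_map]
    rw [show ((List.range 56).map fun a => vs.map ((fun v => sgnSum (cA ι v) (pL.getD a (0, 0, false))) ∘ fun v => act7 [i] v)) =
      (wtR.getD i []).map fun a => vs.map fun v => sgnSum (cA ι v) (pL.getD a (0, 0, false)) from ?_]
    · exact hp.map _
    have hlen : (wtR.getD i []).length = 56 := by rw [hp.length_eq, List.length_range]
    refine List.ext_getElem (by rw [List.length_map, List.length_range, List.length_map, hlen]) fun a ha hb => ?_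
    simp only [List.length_map, List.length_range] at ha
    rw [List.getElem_map, List.getElem_range, List.getElem_map]
    refine List.map_congr_left fun v _ => ?_
    rw [Function.comp_apply, ← List.getD_eq_getElem (wtR.getD i []) 0 (by omega), sgnSum_cA, sgnSum_cA]
    simp only [act7, act, AltSection.val, Finset.mul_sum]
    rw [Finset.sum_comm]
    refine Finset.sum_congr rfl fun l _ => ?_
    rw [← hc a ha l, Int.cast_sum, Finset.sum_mul, Finset.mul_sum]
    exact Finset.sum_congr rfl fun k _ => by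
      rw [show wperm tblE7 [i] (tblE7.simp' k) = tblE7.refl' i (tblE7.simp' k) from rfl]
      push_cast; ring

/-- The code of a list of residues. -/
def code (ℓ : ℕ) : List ℕ → ℕ
  | [] => 0
  | x :: xs => x + ℓ * code ℓ xs

/-- The residue at a weight of coordinates. -/
def wN (ℓ : ℕ) (c : List ℕ) (p : ℕ × ℕ × Bool) : ℕ :=
  if p.2.2 then (ℓ - (c.getD p.1 0 + c.getD p.2.1 0) % ℓ) % ℓ else (c.getD p.1 0 + c.getD p.2.1 0) % ℓ

/-- The packed joint counts. -/
def hist (ℓ : ℕ) (cs : List (List ℕ)) : ℕ := (pL.map fun p => 64 ^ code ℓ (cs.map fun c => wN ℓ c p)).sum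

theorem pL_lt : ∀ p ∈ pL, p.1 < 8 ∧ p.2.1 < 8 := by decide +kernel

theorem hist_clist {ℓ : ℕ} [NeZero ℓ] (ι : ZMod ℓ) (vs : List (Vt (ZMod ℓ))) :
    hist ℓ (vs.map (clist ι)) = ((joint ι vs).map fun t => 64 ^ code ℓ (t.map ZMod.val)).sum := by
  refine congrArg List.sum ?_
  rw [joint, List.map_map]
  refine List.map_congr_left fun p hp => ?_
  simp only [Function.comp_apply, List.map_map]
  refine congrArg (fun l => 64 ^ code ℓ l) (List.map_congr_left fun v _ => ?_)
  simp only [Function.comp_apply, wN, sgnSum, clist_getD ι v (pL_lt p hp).1, clist_getD ι v (pL_lt p hp).2]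
  split_ifs
  · rw [ZMod.neg_val', ZMod.val_add]
  · rw [ZMod.val_add]

/-- Words keep the packed joint counts. -/
theorem hist_act {ℓ : ℕ} [NeZero ℓ] (ι : ZMod ℓ) {u : List ℕ} (hu : IsWord chevE7 u) (vs : List (Vt (ZMod ℓ))) :
    hist ℓ ((vs.map fun v => act7 u v).map (clist ι)) = hist ℓ (vs.map (clist ι)) := by
  rw [hist_clist, hist_clist]
  exact ((joint_act ι hu vs).map _).sum_eq

/-- Coordinates times a number. -/
def sclL (ℓ k : ℕ) (c : List ℕ) : List ℕ := c.map fun x => k * x % ℓ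

theorem clist_smul {ℓ : ℕ} [NeZero ℓ] (ι : ZMod ℓ) (k : ℕ) (v : Vt (ZMod ℓ)) :
    clist ι ((k : ZMod ℓ) • v) = sclL ℓ k (clist ι v) := by
  simp only [clist, sclL, List.map_map]
  refine List.map_congr_left fun i _ => ?_
  have : cA ι ((k : ZMod ℓ) • v) i = (k : ZMod ℓ) * cA ι v i := by
    simp only [cA, Pi.smul_apply, smul_eq_mul, Finset.mul_sum]
    exact Finset.sum_congr rfl fun j _ => by ring
  rw [Function.comp_apply, this, ZMod.val_mul, ZMod.val_natCast, Nat.mod_mul_mod]

/-! ### Enumerations -/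

/-- Nondecreasing lists. -/
def incs : ℕ → ℕ → ℕ → List (List ℕ)
  | _, 0, _ => [[]]
  | ℓ, n + 1, lo => (List.range' lo (ℓ - lo)).flatMap fun a => (incs ℓ n a).map fun l => a :: l

theorem mem_incs {ℓ : ℕ} : ∀ (n lo : ℕ) (f : ℕ → ℕ), (∀ i < n, lo ≤ f i ∧ f i < ℓ) →
    (∀ i, i + 1 < n → f i ≤ f (i + 1)) → (List.range n).map f ∈ incs ℓ n lo
  | 0, _, _, _, _ => by simp [incs]
  | n + 1, lo, f, h1, h2 => by
    rw [List.range_succ_eq_map, List.map_cons, List.map_map, incs, List.mem_flatMap]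
    refine ⟨f 0, List.mem_range'_1.2 ⟨(h1 0 (by omega)).1, by have := h1 0 (by omega); omega⟩,
      List.mem_map.2 ⟨_, mem_incs n (f 0) (f ∘ Nat.succ) (fun i hi => ⟨?_, (h1 (i + 1) (by omega)).2⟩)
        (fun i hi => h2 (i + 1) (by omega)), rfl⟩⟩
    clear h1
    induction i with
    | zero => exact h2 0 (by omega)
    | succ i ih => exact le_trans (ih (by omega)) (h2 (i + 1) (by omega))

end Cfsg.Lib.Chev.E7Alt
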