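import Cfsg.Agent.Lib.Chev.E7Alt.Coord

/-!
A fast form of the packed joint counts and of the arrangements, for the kernel.
-/

set_option autoImplicit false

namespace Cfsg.Lib.Chev.E7Alt

/-- The code of the sums of two columns. -/
noncomputable def codeS (ℓ : ℕ) (a : List ℕ) : List ℕ → ℕ :=
  List.rec (motive := fun _ => List ℕ → ℕ) (fun _ => 0)
    (fun x _ r b => Nat.add (Nat.mod (Nat.add x (b.headD 0)) ℓ) (Nat.mul ℓ (r b.tail))) a

/-- The code of the negated sums of two columns. -/
noncomputable def negS (ℓ : ℕ) (a : List ℕ) : List ℕ → ℕ :=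
  List.rec (motive := fun _ => List ℕ → ℕ) (fun _ => 0)
    (fun x _ r b => Nat.add (Nat.mod (Nat.sub ℓ (Nat.mod (Nat.add x (b.headD 0)) ℓ)) ℓ) (Nat.mul ℓ (r b.tail))) a

/-- The terms of a column against later ones. -/
noncomputable def colIn (ℓ : ℕ) (a : List ℕ) (rest : List (List ℕ)) : ℕ :=
  List.rec (motive := fun _ => ℕ) 0
    (fun b _ acc => Nat.add (Nat.add (Nat.shiftLeft 1 (Nat.mul 6 (codeS ℓ a b)))
      (Nat.shiftLeft 1 (Nat.mul 6 (negS ℓ a b)))) acc) rest

/-- The terms of all pairs of columns. -/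
noncomputable def colOut (ℓ : ℕ) (cols : List (List ℕ)) : ℕ :=
  List.rec (motive := fun _ => ℕ) 0 (fun a rest acc => Nat.add (colIn ℓ a rest) acc) cols

/-- The packed joint counts, fast. -/
noncomputable def histF (ℓ : ℕ) (cs : List (List ℕ)) : ℕ :=
  colOut ℓ ((List.range 8).map fun i => cs.map fun c => c.getD i 0)

theorem codeS_map {α : Type*} (ℓ : ℕ) (f g : α → ℕ) : ∀ l : List α,
    codeS ℓ (l.map f) (l.map g) = code ℓ (l.map fun c => (f c + g c) % ℓ)
  | [] => rfl
  | c :: l => by
    show Nat.add (Nat.mod (Nat.add (f c) (g c)) ℓ) (Nat.mul ℓ (codeS ℓ (l.map f) (l.map g))) = _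
    rw [codeS_map ℓ f g l]; rfl

theorem negS_map {α : Type*} (ℓ : ℕ) (f g : α → ℕ) : ∀ l : List α,
    negS ℓ (l.map f) (l.map g) = code ℓ (l.map fun c => (ℓ - (f c + g c) % ℓ) % ℓ)
  | [] => rfl
  | c :: l => by
    show Nat.add (Nat.mod (Nat.sub ℓ (Nat.mod (Nat.add (f c) (g c)) ℓ)) ℓ) (Nat.mul ℓ (negS ℓ (l.map f) (l.map g))) = _
    rw [negS_map ℓ f g l]; rfl

theorem colIn_sum (ℓ : ℕ) (a : List ℕ) : ∀ rest : List (List ℕ),
    colIn ℓ a rest = (rest.map fun b => 64 ^ codeS ℓ a b + 64 ^ negS ℓ a b).sum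
  | [] => rfl
  | b :: rest => by
    show Nat.add (Nat.add (Nat.shiftLeft 1 (6 * codeS ℓ a b)) (Nat.shiftLeft 1 (6 * negS ℓ a b))) (colIn ℓ a rest) = _
    rw [colIn_sum ℓ a rest, List.map_cons, List.sum_cons]
    show 1 <<< (6 * codeS ℓ a b) + 1 <<< (6 * negS ℓ a b) + _ = _
    rw [Nat.one_shiftLeft, Nat.one_shiftLeft, pow_mul, pow_mul]
    norm_num

/-- The pairs of a list. -/
def pairsL : List ℕ → List (ℕ × ℕ)
  | [] => []
  | i :: t => t.map (fun j => (i, j)) ++ pairsL t

theorem colOut_sum (ℓ : ℕ) (f : ℕ → List ℕ) : ∀ is : List ℕ,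
    colOut ℓ (is.map f) = ((pairsL is).map fun p => 64 ^ codeS ℓ (f p.1) (f p.2) + 64 ^ negS ℓ (f p.1) (f p.2)).sum
  | [] => rfl
  | i :: t => by
    show Nat.add (colIn ℓ (f i) (t.map f)) (colOut ℓ (t.map f)) = _
    rw [colIn_sum, colOut_sum ℓ f t, pairsL, List.map_append, List.sum_append, List.map_map, List.map_map]
    rfl

theorem pL_split : pL = (pairsL (List.range 8)).map (fun p => (p.1, p.2, false)) ++
    (pairsL (List.range 8)).map (fun p => (p.1, p.2, true)) := by decide +kernel

theorem sum_map_add {α : Type*} (f g : α → ℕ) : ∀ l : List α,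
    (l.map fun a => f a + g a).sum = (l.map f).sum + (l.map g).sum
  | [] => rfl
  | a :: l => by simp only [List.map_cons, List.sum_cons, sum_map_add f g l]; ring

theorem hist_eq_fast (ℓ : ℕ) (cs : List (List ℕ)) : hist ℓ cs = histF ℓ cs := by
  rw [histF, colOut_sum ℓ (fun i => cs.map fun c => c.getD i 0), hist, pL_split, List.map_append, List.sum_append,
    sum_map_add, List.map_map, List.map_map]
  simp only [codeS_map, negS_map]
  rfl

/-- The distinct members of a list with the remainders. -/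
noncomputable def picks (l : List ℕ) : List (ℕ × List ℕ) :=
  List.rec (motive := fun _ => List (ℕ × List ℕ)) []
    (fun x t r => (x, t) :: (r.filter fun q => !(Nat.beq q.1 x)).map fun q => (q.1, x :: q.2)) l

theorem mem_picks {v : ℕ} : ∀ {l : List ℕ}, v ∈ l → (v, l.erase v) ∈ picks l
  | x :: t, h => by
    show (v, (x :: t).erase v) ∈
      (x, t) :: ((picks t).filter fun q => !(Nat.beq q.1 x)).map fun q => (q.1, x :: q.2)
    by_cases e : v = x
    · subst e; rw [List.erase_cons_head]; exact List.mem_cons_self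
    · refine List.mem_cons_of_mem _ (List.mem_map.2 ⟨(v, t.erase v), List.mem_filter.2
        ⟨mem_picks ((List.mem_cons.1 h).resolve_left e), ?_⟩, ?_⟩)
      · show (!(Nat.beq v x)) = true
        rcases hb : Nat.beq v x with - | -
        · rfl
        · exact absurd (Nat.eq_of_beq_eq_true hb) e
      · rw [List.erase_cons_tail (by simpa using Ne.symm e)]

/-- Every arrangement of a multiset along keys, increasing where the key repeats, passes a test. -/
noncomputable def allFill (P : List ℕ → Bool) (ks : List ℕ) : List ℕ → ℕ → ℕ → List ℕ → Bool :=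
  List.rec (motive := fun _ => List ℕ → ℕ → ℕ → List ℕ → Bool) (fun _ _ _ acc => P acc.reverse)
    (fun k _ r av pk pv acc => (picks av).all fun q =>
      (Nat.beq k pk && !(Nat.ble pv q.1)) || r q.2 k q.1 (q.1 :: acc)) ks

theorem allFill_spec {P : List ℕ → Bool} : ∀ (n o : ℕ) (f g : ℕ → ℕ) (av : List ℕ) (pk pv : ℕ) (acc : List ℕ),
    allFill P ((List.range' o n).map f) av pk pv acc = true →
    ((List.range' o n).map g).Perm av → (0 < n → f o = pk → pv ≤ g o) →
    (∀ i, o ≤ i → i + 1 < o + n → f i = f (i + 1) → g i ≤ g (i + 1)) →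
    P (acc.reverse ++ (List.range' o n).map g) = true
  | 0, o, f, g, av, pk, pv, acc, h, _, _, _ => by simpa [allFill] using h
  | n + 1, o, f, g, av, pk, pv, acc, h, hp, hh, hord => by
    simp only [List.range'_succ, List.map_cons] at hp h ⊢
    have hmem : g o ∈ av := hp.mem_iff.1 List.mem_cons_self
    have h' := List.all_eq_true.1 (show (picks av).all (fun q => (Nat.beq (f o) pk && !(Nat.ble pv q.1)) ||
      allFill P ((List.range' (o + 1) n).map f) q.2 (f o) q.1 (q.1 :: acc)) = true from h) _ (mem_picks hmem)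
    rcases Bool.or_eq_true_iff.1 h' with h' | h'
    · exfalso
      obtain ⟨h1, h2⟩ := Bool.and_eq_true_iff.1 h'
      have hle : Nat.ble pv (g o) = true := by rw [Nat.ble_eq]; exact hh (by omega) (Nat.eq_of_beq_eq_true h1)
      simp [hle] at h2
    · have := allFill_spec n (o + 1) f g (av.erase (g o)) (f o) (g o) (g o :: acc) h'
        (by have := hp.erase (g o); rwa [List.erase_cons_head] at this)
        (fun hn e => hord o le_rfl (by omega) e.symm) (fun i hi hi' => hord i (by omega) (by omega))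
      simpa [List.append_assoc] using this

end Cfsg.Lib.Chev.E7Alt
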