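import Mathlib

/-!
Data on the root system of type E7 in the coordinates of a subsystem of type A7: the coordinates, the weights
of the module of dimension fifty-six and their reflections, and words moving toral vectors of order five or seven.
-/

set_option autoImplicit false

namespace Cfsg.Lib.Chev.E7Alt

/-- Eight times the coordinates, on the simple roots. -/
def cB : List (List ℤ) :=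
  [[-8, -14, -16, -24, -18, -12, -6], [8, 2, 8, 8, 6, 4, 2], [0, 2, 8, 8, 6, 4, 2], [0, 2, 0, 8, 6, 4, 2],
  [0, 2, 0, 0, 6, 4, 2], [0, 2, 0, 0, -2, 4, 2], [0, 2, 0, 0, -2, -4, 2], [0, 2, 0, 0, -2, -4, -6]]

/-- The simple roots as sums of coordinates. -/
def cV : List (List ℤ) :=
  [[0, 1, -1, 0, 0, 0, 0, 0], [0, 0, 0, 0, 1, 1, 1, 1], [0, 0, 1, -1, 0, 0, 0, 0], [0, 0, 0, 1, -1, 0, 0,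
  0], [0, 0, 0, 0, 1, -1, 0, 0], [0, 0, 0, 0, 0, 1, -1, 0], [0, 0, 0, 0, 0, 0, 1, -1]]

/-- Words exchanging neighbouring coordinates. -/
def swW : List (List ℕ) :=
  [[0, 2, 3, 1, 4, 3, 2, 0, 5, 4, 3, 1, 2, 3, 4, 5, 6, 5, 4, 3, 2, 1, 3, 4, 5, 0, 2, 3, 4, 1, 3, 2, 0], [0],
  [2], [3], [4], [5], [6]]

/-- The weights as signed sums of two coordinates. -/
def pL : List (ℕ × ℕ × Bool) :=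
  [(0, 1, false), (0, 2, false), (0, 3, false), (0, 4, false), (0, 5, false), (0, 6, false), (0, 7, false),
  (1, 2, false), (1, 3, false), (1, 4, false), (1, 5, false), (1, 6, false), (1, 7, false), (2, 3, false),
  (2, 4, false), (2, 5, false), (2, 6, false), (2, 7, false), (3, 4, false), (3, 5, false), (3, 6, false),
  (3, 7, false), (4, 5, false), (4, 6, false), (4, 7, false), (5, 6, false), (5, 7, false), (6, 7, false),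
  (0, 1, true), (0, 2, true), (0, 3, true), (0, 4, true), (0, 5, true), (0, 6, true), (0, 7, true), (1, 2,
  true), (1, 3, true), (1, 4, true), (1, 5, true), (1, 6, true), (1, 7, true), (2, 3, true), (2, 4, true),
  (2, 5, true), (2, 6, true), (2, 7, true), (3, 4, true), (3, 5, true), (3, 6, true), (3, 7, true), (4, 5,
  true), (4, 6, true), (4, 7, true), (5, 6, true), (5, 7, true), (6, 7, true)]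

/-- The reflections on the weights. -/
def wtR : List (List ℕ) :=
  [[1, 0, 2, 3, 4, 5, 6, 7, 13, 14, 15, 16, 17, 8, 9, 10, 11, 12, 18, 19, 20, 21, 22, 23, 24, 25, 26, 27,
  29, 28, 30, 31, 32, 33, 34, 35, 41, 42, 43, 44, 45, 36, 37, 38, 39, 40, 46, 47, 48, 49, 50, 51, 52, 53,
  54, 55], [41, 36, 35, 3, 4, 5, 6, 30, 29, 9, 10, 11, 12, 28, 14, 15, 16, 17, 18, 19, 20, 21, 55, 54, 53,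
  52, 51, 50, 13, 8, 7, 31, 32, 33, 34, 2, 1, 37, 38, 39, 40, 0, 42, 43, 44, 45, 46, 47, 48, 49, 27, 26, 25,
  24, 23, 22], [0, 2, 1, 3, 4, 5, 6, 8, 7, 9, 10, 11, 12, 13, 18, 19, 20, 21, 14, 15, 16, 17, 22, 23, 24,
  25, 26, 27, 28, 30, 29, 31, 32, 33, 34, 36, 35, 37, 38, 39, 40, 41, 46, 47, 48, 49, 42, 43, 44, 45, 50,
  51, 52, 53, 54, 55], [0, 1, 3, 2, 4, 5, 6, 7, 9, 8, 10, 11, 12, 14, 13, 15, 16, 17, 18, 22, 23, 24, 19,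
  20, 21, 25, 26, 27, 28, 29, 31, 30, 32, 33, 34, 35, 37, 36, 38, 39, 40, 42, 41, 43, 44, 45, 46, 50, 51,
  52, 47, 48, 49, 53, 54, 55], [0, 1, 2, 4, 3, 5, 6, 7, 8, 10, 9, 11, 12, 13, 15, 14, 16, 17, 19, 18, 20,
  21, 22, 25, 26, 23, 24, 27, 28, 29, 30, 32, 31, 33, 34, 35, 36, 38, 37, 39, 40, 41, 43, 42, 44, 45, 47,
  46, 48, 49, 50, 53, 54, 51, 52, 55], [0, 1, 2, 3, 5, 4, 6, 7, 8, 9, 11, 10, 12, 13, 14, 16, 15, 17, 18,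
  20, 19, 21, 23, 22, 24, 25, 27, 26, 28, 29, 30, 31, 33, 32, 34, 35, 36, 37, 39, 38, 40, 41, 42, 44, 43,
  45, 46, 48, 47, 49, 51, 50, 52, 53, 55, 54], [0, 1, 2, 3, 4, 6, 5, 7, 8, 9, 10, 12, 11, 13, 14, 15, 17,
  16, 18, 19, 21, 20, 22, 24, 23, 26, 25, 27, 28, 29, 30, 31, 32, 34, 33, 35, 36, 37, 38, 40, 39, 41, 42,
  43, 45, 44, 46, 47, 49, 48, 50, 52, 51, 54, 53, 55]]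

/-- Sorted coordinates of the vectors of order seven tripled by a word, one of each orbit. -/
def rep7 : List (List ℕ) :=
  [[0, 0, 0, 0, 0, 1, 2, 4], [0, 1, 1, 1, 1, 2, 3, 5], [1, 1, 1, 2, 2, 4, 5, 5]]

/-- Words moving the sorted vectors of order seven to the chosen ones. -/
def word7 : List (List ℕ × List ℕ × List ℕ) :=
  [([0, 0, 0, 0, 0, 1, 2, 4], [0, 0, 0, 0, 0, 1, 2, 4], []), ([0, 0, 0, 0, 0, 3, 5, 6], [0, 0, 0, 0, 0, 1,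
  2, 4], [4, 3, 1, 2, 3, 4, 5, 4, 3, 1, 2, 3, 4, 6, 5, 4, 3, 1, 2, 3, 4]), ([0, 0, 1, 1, 2, 2, 4, 4], [0, 1,
  1, 1, 1, 2, 3, 5], [3, 1, 2, 0, 3, 4, 3, 1, 2, 3, 5, 4, 3, 2, 0, 6, 5, 4, 3, 1, 2, 3, 4]), ([0, 0, 1, 2,
  3, 4, 5, 6], [1, 1, 1, 2, 2, 4, 5, 5], [1, 3, 4, 3, 1, 2, 5]), ([0, 0, 3, 3, 5, 5, 6, 6], [0, 1, 1, 1, 1,
  2, 3, 5], [1, 5, 4, 3, 1, 2, 0, 3, 2, 4, 6, 5, 4, 3, 1, 2, 0, 3, 2, 4, 3, 1, 5, 4]), ([0, 1, 1, 1, 1, 2,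
  3, 5], [0, 1, 1, 1, 1, 2, 3, 5], []), ([0, 1, 1, 2, 2, 3, 6, 6], [1, 1, 1, 2, 2, 4, 5, 5], [1, 3, 4, 3, 1,
  2, 0, 3, 2]), ([0, 1, 1, 3, 3, 4, 4, 5], [1, 1, 1, 2, 2, 4, 5, 5], [4, 3, 1, 2, 0, 5, 4, 3, 1, 2, 0, 3, 4,
  5, 6, 5, 4, 3, 1, 2, 0, 3, 2, 4, 3, 5, 4]), ([0, 1, 1, 4, 5, 5, 6, 6], [1, 1, 1, 2, 2, 4, 5, 5], [2, 0, 3,
  1, 2, 0, 3, 5, 4, 3, 1, 2, 0, 3, 2, 4, 6, 5, 4, 3, 1, 2, 0, 3, 2, 4, 3, 1, 5, 4, 6, 5]), ([0, 1, 2, 2, 3,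
  3, 5, 5], [1, 1, 1, 2, 2, 4, 5, 5], [3, 1, 2, 0, 3, 5, 4, 3, 1, 2, 3, 4, 5, 6, 5, 4, 3, 1, 2, 0, 3, 2, 4,
  3, 5, 4]), ([0, 1, 2, 3, 3, 3, 3, 6], [0, 1, 1, 1, 1, 2, 3, 5], [2, 0, 3, 2, 4, 3, 1, 5, 4, 3, 2, 6, 5, 4,
  3, 1, 2, 0, 3, 2, 4, 3, 5, 4, 6, 5]), ([0, 1, 3, 4, 5, 5, 5, 5], [0, 1, 1, 1, 1, 2, 3, 5], [2, 3, 1, 4, 3,
  2, 5, 4, 3, 1]), ([0, 1, 4, 4, 4, 4, 5, 6], [0, 1, 1, 1, 1, 2, 3, 5], [0, 5, 4, 3, 1, 2, 0, 3, 2, 4, 3, 1,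
  5, 4, 3, 2, 6, 5, 4, 3, 1, 2, 0, 3, 2, 4, 3, 1, 5, 4]), ([0, 2, 2, 2, 2, 3, 4, 6], [0, 1, 1, 1, 1, 2, 3,
  5], [1, 3, 2, 0, 5, 4, 3, 1, 2, 0, 3, 2, 4, 3, 1, 5, 4, 3, 2, 6, 5, 4, 3, 1, 2, 0, 3, 2, 4, 3, 5, 4, 6,
  5]), ([0, 2, 2, 4, 4, 5, 5, 6], [1, 1, 1, 2, 2, 4, 5, 5], [1, 3, 4, 6, 5, 4, 3, 1, 2, 0, 3, 2, 4, 3, 1, 5,
  4, 6, 5]), ([0, 2, 3, 3, 4, 4, 6, 6], [1, 1, 1, 2, 2, 4, 5, 5], [1, 3, 4, 5, 4, 3, 1, 2, 0, 3, 2, 4, 3, 1,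
  5, 4, 3, 2]), ([0, 2, 4, 5, 6, 6, 6, 6], [0, 1, 1, 1, 1, 2, 3, 5], [0, 1, 2, 3, 1, 2, 0, 4, 3, 1, 2, 0, 3,
  5, 4, 3, 1, 2, 0, 3, 2, 4, 6, 5, 4, 3, 1, 2, 0, 3, 2, 4, 3, 1, 5, 4]), ([1, 1, 1, 2, 2, 4, 5, 5], [1, 1,
  1, 2, 2, 4, 5, 5], []), ([1, 1, 1, 2, 5, 6, 6, 6], [0, 0, 0, 0, 0, 1, 2, 4], [1, 2, 3, 1, 4, 3, 2, 5, 4,
  3, 6, 5, 4]), ([1, 1, 2, 4, 4, 4, 6, 6], [1, 1, 1, 2, 2, 4, 5, 5], [1, 2, 0, 3, 1, 2, 0, 3, 4, 5, 4, 3, 1,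
  2, 0, 3, 6, 5, 4, 3, 1, 2, 0, 3, 2, 4, 5]), ([1, 1, 3, 3, 3, 5, 6, 6], [1, 1, 1, 2, 2, 4, 5, 5], [0, 1, 3,
  4, 3, 1, 2, 3, 4, 5, 4, 3, 1, 2, 0, 3, 2, 4, 6, 5, 4, 3, 1, 2, 0, 3, 2, 4, 5]), ([1, 2, 2, 2, 3, 3, 4, 4],
  [1, 1, 1, 2, 2, 4, 5, 5], [3, 1, 4, 3, 2, 0, 5, 4, 3, 1, 2, 3, 4, 5, 6, 5, 4, 3, 1, 2, 0, 3, 2, 4, 3, 5,
  4]), ([1, 3, 3, 3, 4, 4, 4, 6], [0, 0, 0, 0, 0, 1, 2, 4], [3, 1, 4, 3, 2, 0, 5, 4, 3, 1, 2, 3, 4, 6, 5,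
  4]), ([2, 2, 2, 3, 4, 5, 5, 5], [0, 0, 0, 0, 0, 1, 2, 4], [2, 3, 1, 4, 3, 2, 5, 4, 3, 6, 5, 4]), ([2, 2,
  3, 5, 5, 6, 6, 6], [1, 1, 1, 2, 2, 4, 5, 5], [4, 3, 1, 2, 0, 3, 2, 4, 3, 1, 5, 4, 3, 2, 0, 6, 5, 4, 3, 1,
  2, 3, 4, 5]), ([3, 3, 4, 4, 5, 5, 5, 6], [1, 1, 1, 2, 2, 4, 5, 5], [3, 1, 2, 0, 3, 2, 4, 3, 1, 5, 4, 3, 2,
  0, 6, 5, 4, 3, 1, 2, 0, 3, 2, 4, 3, 1, 5])]

/-- The chosen vector of order five. -/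
def x5 : List ℕ :=
  [0, 1, 1, 1, 1, 3, 4, 4]

/-- Words moving the sorted vectors of order five to the chosen one. -/
def word5 : List (List ℕ × List ℕ) :=
  [([0, 0, 0, 0, 1, 2, 3, 4], [4, 3, 1, 2, 0, 3, 2, 6, 5, 4, 3, 1, 2, 0, 3, 2, 4, 3, 1, 5, 4, 6, 5]), ([0,
  1, 1, 1, 1, 3, 4, 4], []), ([0, 1, 1, 2, 4, 4, 4, 4], [1, 3, 1, 2, 0, 4, 3, 1, 2, 0, 3, 5, 4, 3, 1, 2, 0,
  3, 2, 4, 6, 5, 4, 3, 1, 2, 0, 3, 2, 4, 3, 1, 5, 4, 6, 5]), ([0, 1, 2, 2, 2, 2, 3, 3], [0, 2, 3, 1, 4, 3,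
  2, 0, 5, 4, 3, 1, 2, 3, 4, 5, 6, 5, 4, 3, 1, 2, 0, 3, 2, 4, 3, 5, 4]), ([0, 2, 2, 3, 3, 3, 3, 4], [1, 3,
  4, 6, 5, 4, 3, 1, 2, 0, 3, 2, 4, 3, 1, 5, 4, 6, 5]), ([1, 1, 2, 2, 3, 3, 4, 4], [3, 1, 2, 0, 4, 3, 1, 2,
  0, 3, 4, 5, 4, 3, 2, 0, 6, 5, 4, 3, 1, 2, 3, 4, 5])]

/-- The chosen second vectors of order five. -/
def rep5 : List (List ℕ) :=
  [[1, 0, 2, 3, 3, 2, 2, 2], [4, 0, 0, 1, 3, 2, 0, 0], [1, 0, 1, 1, 3, 1, 4, 4], [1, 0, 0, 2, 4, 3, 0, 0],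
  [4, 0, 2, 2, 3, 3, 3, 3]]

/-- Words fixing the chosen vector and moving second vectors to chosen ones. -/
def pair5 : List (List ℕ × List ℕ × List ℕ) :=
  [([1, 0, 2, 3, 3, 2, 2, 2], [1, 0, 2, 3, 3, 2, 2, 2], []), ([2, 2, 3, 4, 4, 3, 1, 1], [1, 0, 2, 3, 3, 2,
  2, 2], [0, 2, 1, 3, 4, 1, 3, 2, 1, 0]), ([4, 1, 1, 2, 4, 0, 4, 4], [1, 0, 2, 3, 3, 2, 2, 2], [1, 3, 4, 3,
  2, 1, 3, 0, 2]), ([3, 0, 0, 1, 2, 4, 0, 0], [1, 0, 2, 3, 3, 2, 2, 2], [3, 2, 1, 3, 4, 3, 0, 2, 1]), ([4,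
  0, 0, 1, 3, 2, 0, 0], [4, 0, 0, 1, 3, 2, 0, 0], []), ([1, 1, 2, 2, 4, 4, 3, 3], [4, 0, 0, 1, 3, 2, 0, 0],
  [0, 2, 1, 3, 4, 1, 3, 1]), ([2, 1, 2, 3, 3, 0, 2, 2], [4, 0, 0, 1, 3, 2, 0, 0], [2, 1, 3, 4, 3, 0, 2, 1,
  3]), ([3, 0, 1, 4, 4, 1, 1, 1], [4, 0, 0, 1, 3, 2, 0, 0], [2, 1, 3, 4, 3, 0, 2, 1]), ([1, 0, 1, 1, 3, 1,
  4, 4], [1, 0, 1, 1, 3, 1, 4, 4], []), ([2, 0, 1, 2, 2, 2, 3, 3], [1, 0, 1, 1, 3, 1, 4, 4], [0, 2, 1, 3, 4,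
  3, 1]), ([4, 0, 2, 4, 4, 4, 1, 1], [1, 0, 1, 1, 3, 1, 4, 4], [2, 3, 0, 2, 1, 3, 4, 1, 3, 2, 1, 0]), ([3,
  0, 3, 3, 4, 3, 2, 2], [1, 0, 1, 1, 3, 1, 4, 4], [1, 3, 4, 3, 0, 2, 1, 3, 0]), ([1, 0, 0, 2, 4, 3, 0, 0],
  [1, 0, 0, 2, 4, 3, 0, 0], []), ([4, 1, 3, 3, 4, 1, 2, 2], [1, 0, 0, 2, 4, 3, 0, 0], [0, 2, 1, 3, 4, 1, 3,
  1]), ([3, 2, 2, 3, 4, 0, 3, 3], [1, 0, 0, 2, 4, 3, 0, 0], [3, 2, 1, 3, 4, 1, 3, 2, 1]), ([2, 0, 1, 1, 4,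
  4, 4, 4], [1, 0, 0, 2, 4, 3, 0, 0], [1, 3, 4, 3, 0, 2, 1, 3, 2]), ([4, 0, 2, 2, 3, 3, 3, 3], [4, 0, 2, 2,
  3, 3, 3, 3], []), ([1, 1, 3, 4, 4, 0, 1, 1], [4, 0, 2, 2, 3, 3, 3, 3], [2, 3, 0, 2, 1, 3, 4, 1, 3, 2, 1,
  0]), ([2, 0, 0, 3, 4, 1, 0, 0], [4, 0, 2, 2, 3, 3, 3, 3], [2, 1, 3, 4, 1, 3, 1, 0]), ([3, 1, 1, 2, 3, 2,
  4, 4], [4, 0, 2, 2, 3, 3, 3, 3], [2, 1, 3, 4, 3, 2, 1, 3, 0])]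

end Cfsg.Lib.Chev.E7Alt
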