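import Cfsg.Agent.Lib.Chev.E7Alt.FiveDefs

/-!
The tests on the third vectors of order five, part 0.
-/

set_option autoImplicit false
set_option maxRecDepth 100000

namespace Cfsg.Lib.Chev.E7Alt

theorem ok5_0_0 : ok5 0 0 = true := by decide +kernel

theorem ok5_0_1 : ok5 0 1 = true := by decide +kernel

theorem ok5_0_2 : ok5 0 2 = true := by decide +kernel

theorem ok5_0_3 : ok5 0 3 = true := by decide +kernel

theorem ok5_0_4 : ok5 0 4 = true := by decide +kernel

theorem ok5_0_5 : ok5 0 5 = true := by decide +kernel

end Cfsg.Lib.Chev.E7Alt
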