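import Cfsg.Agent.Lib.Chev.E7Alt.Normal
import Cfsg.Agent.Lib.Chev.E7Alt.FiveZ0
import Cfsg.Agent.Lib.Chev.E7Alt.FiveZ1
import Cfsg.Agent.Lib.Chev.E7Alt.FiveZ2
import Cfsg.Agent.Lib.Chev.E7Alt.FiveZ3
import Cfsg.Agent.Lib.Chev.E7Alt.FiveZ4

/-!
No three independent toral vectors of order five are permuted by words as the three five-cycles of the
alternating group of degree fifteen are by their normaliser.
-/

set_option autoImplicit false
set_option maxRecDepth 100000

namespace Cfsg.Lib.Chev.E7Alt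

open Cfsg.Lie Cfsg.Lib.Chev.AltSection

local instance factFive : Fact (Nat.Prime 5) := ⟨by norm_num⟩

theorem okX5_all : (incs 5 8 0).all okX5 = true := by decide +kernel

theorem word5_chk : ∀ e ∈ word5, (∀ i ∈ e.2, i < chevE7.rank) ∧ clist (2 : ZMod 5) (act7 e.2 (vecL 5 e.1)) = x5 := by
  show ∀ e ∈ word5, (∀ i ∈ e.2, i < 7) ∧ _
  decide +kernel

theorem pair5_chk : ∀ e ∈ pair5, e.2.1 ∈ rep5 ∧ (∀ i ∈ e.2.2, i < chevE7.rank) ∧
    clist (2 : ZMod 5) (act7 e.2.2 (vecL 5 x5)) = x5 ∧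
    clist (2 : ZMod 5) (act7 e.2.2 (vecL 5 e.1)) = e.2.1 := by
  show ∀ e ∈ pair5, e.2.1 ∈ rep5 ∧ (∀ i ∈ e.2.2, i < 7) ∧ _
  decide +kernel

theorem okY5_all : (word5.all fun e => allFill okY5 x5 e.1 5 0 []) = true := by decide +kernel

theorem x5_sorted : x5.Pairwise (· ≤ ·) ∧ ∀ y ∈ rep5, (keys5 y).Pairwise (· ≤ ·) := by decide +kernel

theorem word5_len : word5.length = 6 ∧ rep5.length = 5 := by decide +kernel

theorem ok5_all : ∀ j < 5, ∀ i < 6, ok5 j i = true := by
  intro j hj i hi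
  interval_cases j <;> interval_cases i
  · exact ok5_0_0
  · exact ok5_0_1
  · exact ok5_0_2
  · exact ok5_0_3
  · exact ok5_0_4
  · exact ok5_0_5
  · exact ok5_1_0
  · exact ok5_1_1
  · exact ok5_1_2
  · exact ok5_1_3
  · exact ok5_1_4
  · exact ok5_1_5
  · exact ok5_2_0
  · exact ok5_2_1
  · exact ok5_2_2
  · exact ok5_2_3
  · exact ok5_2_4
  · exact ok5_2_5
  · exact ok5_3_0
  · exact ok5_3_1
  · exact ok5_3_2
  · exact ok5_3_3
  · exact ok5_3_4
  · exact ok5_3_5
  · exact ok5_4_0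
  · exact ok5_4_1
  · exact ok5_4_2
  · exact ok5_4_3
  · exact ok5_4_4
  · exact ok5_4_5

theorem z5_chk {y : List ℕ} (hy : y ∈ rep5) {a : List ℕ} (ha : a ∈ word5.map fun e => e.1) :
    allFill (okZ5 y) (keys5 y) a 25 0 [] = true := by
  obtain ⟨e, hmem, rfl⟩ := List.mem_map.1 ha
  obtain ⟨i, hi, rfl⟩ := List.getElem_of_mem hmem
  obtain ⟨j, hj, rfl⟩ := List.getElem_of_mem hy
  have := ok5_all j (word5_len.2 ▸ hj) i (word5_len.1 ▸ hi)
  simpa only [ok5, List.getD_eq_getElem _ _ hi, List.getD_eq_getElem _ _ hj] using this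

attribute [local irreducible] hist histF cA incs word5 rep5 pair5 x5 pL

theorem act7_smul (u : List ℕ) (k : ℕ) (v : Vt (ZMod 5)) :
    act7 u ((k : ZMod 5) • v) = (k : ZMod 5) • act7 u v := act_smul u _ v

/-- The count conditions on three vectors. -/
def Cond5 (x y z : Vt (ZMod 5)) : Prop :=
  (x ≠ 0 ∧ (∀ k : ℕ, y ≠ (k : ZMod 5) • x) ∧ ∀ p q : ℕ, z ≠ (p : ZMod 5) • x + (q : ZMod 5) • y) ∧
    (∀ v ∈ [x, y, z], hist 5 ([((3 : ℕ) : ZMod 5) • v].map (clist 2)) = hist 5 ([v].map (clist 2))) ∧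
    (hist 5 ([((3 : ℕ) : ZMod 5) • x, ((3 : ℕ) : ZMod 5) • y].map (clist 2)) = hist 5 ([x, y].map (clist 2)) ∧
      hist 5 ([((4 : ℕ) : ZMod 5) • x, y].map (clist 2)) = hist 5 ([x, y].map (clist 2)) ∧
      hist 5 ([((3 : ℕ) : ZMod 5) • y, x].map (clist 2)) = hist 5 ([x, y].map (clist 2))) ∧
    hist 5 ([((3 : ℕ) : ZMod 5) • x, ((3 : ℕ) : ZMod 5) • y, z].map (clist 2)) = hist 5 ([x, y, z].map (clist 2)) ∧
    hist 5 ([x, ((3 : ℕ) : ZMod 5) • y, ((3 : ℕ) : ZMod 5) • z].map (clist 2)) = hist 5 ([x, y, z].map (clist 2)) ∧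
    hist 5 ([((4 : ℕ) : ZMod 5) • x, y, z].map (clist 2)) = hist 5 ([x, y, z].map (clist 2)) ∧
    hist 5 ([((3 : ℕ) : ZMod 5) • y, x, z].map (clist 2)) = hist 5 ([x, y, z].map (clist 2))

theorem Cond5.move {x y z : Vt (ZMod 5)} (h : Cond5 x y z) {u : List ℕ} (hu : IsWord chevE7 u) :
    Cond5 (act7 u x) (act7 u y) (act7 u z) := by
  obtain ⟨⟨hx, hy, hz⟩, h1, ⟨h2, h2', h2''⟩, h3, h4, h5, h6⟩ := h
  refine ⟨⟨fun e => hx (act_injective cert7 hu (e.trans (funext fun k => (val_zero _).symm))),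
    fun k e => hy k (act_injective cert7 hu (e.trans (act_smul _ _ _).symm)),
    fun p q e => hz p q (act_injective cert7 hu (e.trans ?_))⟩, ?_, ⟨?_, ?_, ?_⟩, ?_, ?_, ?_, ?_⟩
  · show _ = act7 u _
    rw [show act7 u ((p : ZMod 5) • x + (q : ZMod 5) • y) = act7 u ((p : ZMod 5) • x) + act7 u ((q : ZMod 5) • y) from
      act_add _ _ _, act7_smul, act7_smul]
  · intro v hv
    rw [show [act7 u x, act7 u y, act7 u z] = [x, y, z].map (act7 u) from rfl] at hv
    obtain ⟨w, hw, rfl⟩ := List.mem_map.1 hv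
    rw [← act7_smul]
    exact hist_move hu (h1 w hw)
  all_goals simp only [← act7_smul]
  · exact hist_move hu h2
  · exact hist_move hu h2'
  · exact hist_move hu h2''
  · exact hist_move hu h3
  · exact hist_move hu h4
  · exact hist_move hu h5
  · exact hist_move hu h6

theorem two_eight : (2 : ZMod 5) * 8 = 1 := by decide

/-- The sorted list of a vector scaled by a word is in the table. -/
theorem mem_word5 {v : Vt (ZMod 5)} (hv : v ≠ 0)
    (h : hist 5 ([((3 : ℕ) : ZMod 5) • v].map (clist 2)) = hist 5 ([v].map (clist 2))) :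
    ∃ u, IsWord chevE7 u ∧ (clist 2 (act7 u v)).Perm (clist 2 v) ∧
      clist 2 (act7 u v) ∈ word5.map fun e => e.1 := by
  obtain ⟨u, hu, hperm, hmem⟩ := exists_sorted_one (ι := (2 : ZMod 5)) v
  refine ⟨u, hu, hperm, ?_⟩
  have hm := hist_move hu h
  simp only [List.map_cons, List.map_nil, act7_smul, clist_smul, hist_eq_fast] at hm
  obtain ⟨h1, h2⟩ := List.mem_filter.1 hmem
  have hok := List.all_eq_true.1 okX5_all _ h1
  rw [decide_eq_true_eq] at h2
  simp only [okX5, h2, Bool.or_eq_true, decide_eq_true_eq, List.mem_cons] at hok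
  rcases hok with (hok | hok) | hok | hok
  · exact absurd hok (by decide)
  · rw [hm] at hok; simp at hok
  · exact absurd hok (clist_ne_zero two_eight fun e0 => hv (act_injective cert7 hu (e0.trans
      (funext fun k => (val_zero _).symm))))
  · exact hok

theorem clist_comb (p q : ℕ) (x y : Vt (ZMod 5)) :
    clist 2 ((p : ZMod 5) • x + (q : ZMod 5) • y) = combL 5 p q (clist 2 x) (clist 2 y) := by
  simp only [combL, clist, List.zipWith_map, List.zipWith_self]
  refine List.map_congr_left fun i _ => ?_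
  have : cA (2 : ZMod 5) ((p : ZMod 5) • x + (q : ZMod 5) • y) i = (p : ZMod 5) * cA 2 x i + (q : ZMod 5) * cA 2 y i := by
    unfold cA
    simp only [Pi.add_apply, Pi.smul_apply, smul_eq_mul, Finset.mul_sum, ← Finset.sum_add_distrib]
    exact Finset.sum_congr rfl fun j _ => by ring
  rw [this, ZMod.val_add, ZMod.val_mul, ZMod.val_mul, ZMod.val_natCast, ZMod.val_natCast, Nat.mod_mul_mod,
    Nat.mod_mul_mod, ← Nat.add_mod]

theorem not_cond5 {x y z : Vt (ZMod 5)} (h : Cond5 x y z) : False := by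
  -- the first vector
  obtain ⟨u, hu, -, hmem⟩ := mem_word5 h.1.1 (h.2.1 x (by simp))
  obtain ⟨w, hw, hwe⟩ := List.mem_map.1 hmem
  obtain ⟨hw1, hw2⟩ := word5_chk w hw
  rw [hwe, vecL_clist two_eight] at hw2
  have h := (h.move hu).move hw1
  generalize act7 w.2 (act7 u x) = x' at h hw2
  generalize act7 w.2 (act7 u y) = y' at h
  generalize act7 w.2 (act7 u z) = z' at h
  clear hu hmem hw hwe hw1
  -- the second vector
  obtain ⟨u, hu, σ, hσ, hord⟩ := exists_sorted (2 : ZMod 5) [y', x'] fun l => code 5 (l.map ZMod.val)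
  have hkey : ∀ i, i + 1 < 8 → (cA 2 (act7 u y') i).val + 5 * (cA 2 (act7 u x') i).val ≤
      (cA 2 (act7 u y') (i + 1)).val + 5 * (cA 2 (act7 u x') (i + 1)).val := fun i hi => by
    simpa [code] using hord ⟨i, by omega⟩
  have hX : clist 2 (act7 u x') = x5 := by
    rw [← hw2]
    refine eq_of_sorted_perm (clist_perm (σ := σ) fun i => hσ x' (by simp) i)
      (pairwise_range fun i hi => ?_) (hw2 ▸ x5_sorted.1)
    have := hkey i hi
    have := ZMod.val_lt (cA (2 : ZMod 5) (act7 u y') i)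
    have := ZMod.val_lt (cA (2 : ZMod 5) (act7 u y') (i + 1))
    omega
  have h := h.move hu
  generalize act7 u x' = X at h hX hkey
  generalize act7 u y' = Y at h hkey
  generalize act7 u z' = Z at h
  clear hord hw2
  obtain ⟨v, hv, hperm, hmem⟩ := mem_word5 (v := Y) (fun e => h.1.2.1 0 (by rw [e, Nat.cast_zero, zero_smul]))
    (h.2.1 Y (by simp))
  obtain ⟨⟨hX0, hY, hZ⟩, c1, ⟨c2, c2', c2''⟩, c3, c4, c5, c6⟩ := h
  have hY' : clist 2 Y ∈ pair5.map fun e => e.1 := by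
    have h' : okY5 (clist 2 Y) = true := by
      obtain ⟨e, he, hee⟩ := List.mem_map.1 hmem
      have hok := List.all_eq_true.1 okY5_all e he
      rw [hee, ← hX] at hok
      revert hok
      generalize clist 2 (act7 v Y) = av at hperm
      intro hok
      unfold clist at hok hperm ⊢
      rw [List.range_eq_range'] at hok hperm ⊢
      simpa using allFill_spec 8 0 _ _ _ 5 0 [] hok hperm.symm (fun _ _ => Nat.zero_le _) fun i _ hi e => by
        have := hkey i (by omega)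
        omega
    simp only [okY5, Bool.or_eq_true, List.any_eq_true, decide_eq_true_eq, List.mem_range] at h'
    simp only [List.map_cons, List.map_nil, clist_smul, hist_eq_fast, hX] at c2 c2' c2''
    rcases h' with (((hk | hk) | hk) | ⟨k, -, hk⟩) | hk
    · rw [c2] at hk; simp at hk
    · rw [c2'] at hk; simp at hk
    · rw [c2''] at hk; simp at hk
    · exact absurd (clist_inj two_eight (by rw [clist_smul, hX]; exact hk)) (hY k)
    · exact hk
  obtain ⟨e, he, hee⟩ := List.mem_map.1 hY'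
  obtain ⟨hr, hew, hefix, hey⟩ := pair5_chk e he
  rw [← hX, vecL_clist two_eight] at hefix
  rw [hee, vecL_clist two_eight] at hey
  have h := Cond5.move (u := e.2.2) ⟨⟨hX0, hY, hZ⟩, c1, ⟨c2, c2', c2''⟩, c3, c4, c5, c6⟩ hew
  rw [hX] at hefix
  rw [← hey] at hr
  clear hkey c1 c2 c2' c2'' c3 c4 c5 c6 hX0 hY hZ hX hperm hmem
  generalize act7 e.2.2 X = X' at h hefix
  generalize act7 e.2.2 Y = Y' at h hr
  generalize act7 e.2.2 Z = Z' at h
  -- the third vector
  obtain ⟨u, hu, σ, hσ, hord⟩ := exists_sorted (2 : ZMod 5) [Z', Y', X'] fun l => code 5 (l.map ZMod.val)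
  have hkey : ∀ i, i + 1 < 8 → (cA 2 (act7 u Z') i).val + 5 * ((cA 2 (act7 u Y') i).val + 5 * (cA 2 (act7 u X') i).val) ≤
      (cA 2 (act7 u Z') (i + 1)).val + 5 * ((cA 2 (act7 u Y') (i + 1)).val + 5 * (cA 2 (act7 u X') (i + 1)).val) :=
    fun i hi => by simpa [code] using hord ⟨i, by omega⟩
  let kl : Vt (ZMod 5) → Vt (ZMod 5) → List ℕ := fun a b =>
    (List.range 8).map fun i => (cA 2 b i).val + 5 * (cA 2 a i).val
  have hkl : ∀ a b : Vt (ZMod 5), List.zipWith (fun a b => b + 5 * a) (clist 2 a) (clist 2 b) = kl a b := fun a b => by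
    simp [kl, clist, List.zipWith_map, List.zipWith_self]
  have hK : kl (act7 u X') (act7 u Y') = kl X' Y' := by
    refine eq_of_sorted_perm ?_ (pairwise_range fun i hi => ?_) ?_
    · have e : ∀ a b, kl a b = List.ofFn fun i : Fin 8 => (cA 2 b i).val + 5 * (cA 2 a i).val := fun a b => by
        rw [List.ofFn_eq_map]
        simp only [kl, ← List.map_coe_finRange_eq_range, List.map_map]
        rfl
      rw [e, e, show (fun i : Fin 8 => (cA 2 (act7 u Y') i).val + 5 * (cA 2 (act7 u X') i).val) =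
          (fun i : Fin 8 => (cA 2 Y' i).val + 5 * (cA 2 X' i).val) ∘ σ from funext fun i => by
        simp only [Function.comp_apply, hσ Y' (by simp) i, hσ X' (by simp) i]]
      exact Equiv.Perm.ofFn_comp_perm σ _
    · have := hkey i hi
      have := ZMod.val_lt (cA (2 : ZMod 5) (act7 u Z') i)
      have := ZMod.val_lt (cA (2 : ZMod 5) (act7 u Z') (i + 1))
      omega
    · have := x5_sorted.2 _ hr
      rw [keys5, ← hefix, hkl] at this
      exact this
  have hKi : ∀ i, i < 8 → (cA 2 (act7 u X') i).val = (cA 2 X' i).val ∧ (cA 2 (act7 u Y') i).val = (cA 2 Y' i).val := by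
    intro i hi
    have := List.map_inj_left.1 hK i (List.mem_range.2 hi)
    have := ZMod.val_lt (cA (2 : ZMod 5) (act7 u Y') i)
    have := ZMod.val_lt (cA (2 : ZMod 5) Y' i)
    omega
  have hX : clist 2 (act7 u X') = x5 := by
    rw [← hefix]
    exact List.map_congr_left fun i hi => (hKi i (List.mem_range.1 hi)).1
  have hY : clist 2 (act7 u Y') = clist 2 Y' :=
    List.map_congr_left fun i hi => (hKi i (List.mem_range.1 hi)).2
  have h := h.move hu
  rw [← hY] at hr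
  clear hK hKi hY hefix
  generalize act7 u X' = X at h hX hkey
  generalize act7 u Y' = Y at h hr hkey
  generalize act7 u Z' = Z at h hkey
  clear hord
  obtain ⟨v, hv, hperm, hmem⟩ := mem_word5 (v := Z) (fun e => h.1.2.2 0 0 (by simp [e])) (h.2.1 Z (by simp))
  obtain ⟨⟨-, -, hZ⟩, -, -, c3, c4, c5, c6⟩ := h
  have h' : okZ5 (clist 2 Y) (clist 2 Z) = true := by
    have hok := z5_chk hr hmem
    rw [keys5, ← hX, hkl] at hok
    revert hok
    generalize clist 2 (act7 v Z) = av at hperm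
    intro hok
    unfold clist at hperm hok ⊢
    simp only [kl] at hok
    rw [List.range_eq_range'] at hok hperm ⊢
    simpa using allFill_spec 8 0 _ _ _ 25 0 [] hok hperm.symm (fun _ _ => Nat.zero_le _) fun i _ hi e => by
      have := hkey i (by omega)
      omega
  simp only [okZ5, Bool.or_eq_true, List.any_eq_true, decide_eq_true_eq, List.mem_range] at h'
  simp only [List.map_cons, List.map_nil, clist_smul, hist_eq_fast, hX] at c3 c4 c5 c6
  rcases h' with (((hk | hk) | hk) | hk) | ⟨p, -, q, -, hk⟩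
  · rw [c3] at hk; simp at hk
  · rw [c4] at hk; simp at hk
  · rw [c5] at hk; simp at hk
  · rw [c6] at hk; simp at hk
  · exact hZ p q (clist_inj two_eight (by rw [clist_comb, hX]; exact hk))

/-- The obstruction for three elements of order five. -/
theorem no_five {x y z : Vt (ZMod 5)} (hx : x ≠ 0) (hy : ∀ k : ℕ, y ≠ (k : ZMod 5) • x)
    (hz : ∀ p q : ℕ, z ≠ (p : ZMod 5) • x + (q : ZMod 5) • y) {w₀ w₁ w₂ g : List ℕ}
    (hw₀ : IsWord chevE7 w₀) (hw₁ : IsWord chevE7 w₁) (hw₂ : IsWord chevE7 w₂) (hg : IsWord chevE7 g)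
    (a₀ : act7 w₀ x = ((3 : ℕ) : ZMod 5) • x ∧ act7 w₀ y = ((3 : ℕ) : ZMod 5) • y ∧ act7 w₀ z = z)
    (a₁ : act7 w₁ x = x ∧ act7 w₁ y = ((3 : ℕ) : ZMod 5) • y ∧ act7 w₁ z = ((3 : ℕ) : ZMod 5) • z)
    (a₂ : act7 w₂ x = ((4 : ℕ) : ZMod 5) • x ∧ act7 w₂ y = y ∧ act7 w₂ z = z)
    (ag : act7 g x = ((3 : ℕ) : ZMod 5) • y ∧ act7 g y = x ∧ act7 g z = z) : False := by
  refine not_cond5 (x := x) (y := y) (z := z) ⟨⟨hx, hy, hz⟩, ?_, ⟨?_, ?_, ?_⟩, ?_, ?_, ?_, ?_⟩
  · intro v hv
    simp only [List.mem_cons, List.not_mem_nil, or_false] at hv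
    rcases hv with rfl | rfl | rfl
    · simpa [a₀.1] using hist_act (2 : ZMod 5) hw₀ [v]
    · simpa [a₀.2.1] using hist_act (2 : ZMod 5) hw₀ [v]
    · simpa [a₁.2.2] using hist_act (2 : ZMod 5) hw₁ [v]
  · simpa [a₀.1, a₀.2.1] using hist_act (2 : ZMod 5) hw₀ [x, y]
  · simpa [a₂.1, a₂.2.1] using hist_act (2 : ZMod 5) hw₂ [x, y]
  · simpa [ag.1, ag.2.1] using hist_act (2 : ZMod 5) hg [x, y]
  · simpa [a₀.1, a₀.2.1, a₀.2.2] using hist_act (2 : ZMod 5) hw₀ [x, y, z]
  · simpa [a₁.1, a₁.2.1, a₁.2.2] using hist_act (2 : ZMod 5) hw₁ [x, y, z]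
  · simpa [a₂.1, a₂.2.1, a₂.2.2] using hist_act (2 : ZMod 5) hw₂ [x, y, z]
  · simpa [ag.1, ag.2.1, ag.2.2] using hist_act (2 : ZMod 5) hg [x, y, z]

end Cfsg.Lib.Chev.E7Alt
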