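import Cfsg.Agent.Lib.Chev.E7Alt.Count

/-!
The tests on three vectors of order five.
-/

set_option autoImplicit false

namespace Cfsg.Lib.Chev.E7Alt

/-- The test on a first vector of order five. -/
noncomputable def okX5 (a : List ℕ) : Bool :=
  !(Nat.beq (a.sum % 5) 0) || !(Nat.beq (histF 5 [sclL 5 3 a]) (histF 5 [a])) ||
    decide (a ∈ List.replicate 8 0 :: word5.map fun e => e.1)

/-- The test on a second vector of order five. -/
noncomputable def okY5 (y : List ℕ) : Bool :=
  !(Nat.beq (histF 5 [sclL 5 3 x5, sclL 5 3 y]) (histF 5 [x5, y])) ||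
    !(Nat.beq (histF 5 [sclL 5 4 x5, y]) (histF 5 [x5, y])) ||
    !(Nat.beq (histF 5 [sclL 5 3 y, x5]) (histF 5 [x5, y])) ||
    (List.range 5).any (fun k => decide (y = sclL 5 k x5)) || decide (y ∈ pair5.map fun e => e.1)

/-- A combination of two coordinate lists. -/
def combL (ℓ p q : ℕ) (x y : List ℕ) : List ℕ := List.zipWith (fun a b => (p * a + q * b) % ℓ) x y

/-- The test on a third vector of order five. -/
noncomputable def okZ5 (y z : List ℕ) : Bool :=
  !(Nat.beq (histF 5 [sclL 5 3 x5, sclL 5 3 y, z]) (histF 5 [x5, y, z])) ||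
    !(Nat.beq (histF 5 [x5, sclL 5 3 y, sclL 5 3 z]) (histF 5 [x5, y, z])) ||
    !(Nat.beq (histF 5 [sclL 5 4 x5, y, z]) (histF 5 [x5, y, z])) ||
    !(Nat.beq (histF 5 [sclL 5 3 y, x5, z]) (histF 5 [x5, y, z])) ||
    (List.range 5).any fun p => (List.range 5).any fun q => decide (z = combL 5 p q x5 y)

/-- The keys of the chosen pairs. -/
def keys5 (y : List ℕ) : List ℕ := List.zipWith (fun a b => b + 5 * a) x5 y

/-- All arrangements with a given sorted list fail as third vectors. -/
noncomputable def ok5 (j i : ℕ) : Bool :=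
  allFill (okZ5 (rep5.getD j [])) (keys5 (rep5.getD j [])) (word5.getD i ([], [])).1 25 0 []

end Cfsg.Lib.Chev.E7Alt
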