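import Cfsg.Agent.Lib.Chev.E7Alt.Normal
import Cfsg.Agent.Lib.Chev.E7Alt.Count
import Cfsg.Agent.Lib.Chev.AltSection.PrimeTorus

/-!
The regular cocharacter of type E7, and words of order five and seven fixing no scaled vector.
-/

set_option autoImplicit false
set_option maxRecDepth 100000

namespace Cfsg.Lib.Chev.E7Alt

open Cfsg.Lie Cfsg.Lib.Chev.AltSection

/-- Twice the half sum of the positive coroots. -/
def rho7 : List ℤ := [34, 49, 66, 96, 75, 52, 27]

theorem reg7 : RegData chevE7 tblE7 rho7 35 := by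
  have h1 : ∀ r < 126, fval tblE7 rho7 r ≠ 0 ∧ -35 < fval tblE7 rho7 r ∧ fval tblE7 rho7 r < 35 ∧
      (0 < fval tblE7 rho7 r → 126 ≤ 2 * r) := by decide +kernel
  have h2 : ∀ k < 7, 0 < fval tblE7 rho7 (tblE7.simp' k) := by decide +kernel
  exact ⟨h1, h2⟩

/-- The word of order seven. -/
def cyc7 : List ℕ := [0, 2, 3, 4, 5, 6]

/-- The word of order five. -/
def cyc5 : List ℕ := [0, 2, 3, 4]

/-- The coordinates moved by the word of order seven. -/
def per7 : List ℕ := [0, 2, 3, 4, 5, 6, 7, 1]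

/-- The coordinates moved by the word of order five. -/
def per5 : List ℕ := [0, 2, 3, 4, 5, 1, 6, 7]

theorem cyc7_word : IsWord chevE7 cyc7 := fun i hi => by
  show i < 7
  simp only [cyc7, List.mem_cons, List.not_mem_nil, or_false] at hi
  omega

theorem cyc5_word : IsWord chevE7 cyc5 := fun i hi => by
  show i < 7
  simp only [cyc5, List.mem_cons, List.not_mem_nil, or_false] at hi
  omega

theorem cyc_exp : (∀ k < chevE7.rank, wperm tblE7 (List.replicate 7 cyc7).flatten (tblE7.simp' k) = tblE7.simp' k) ∧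
    ∀ k < chevE7.rank, wperm tblE7 (List.replicate 5 cyc5).flatten (tblE7.simp' k) = tblE7.simp' k := by
  show (∀ k < 7, _) ∧ ∀ k < 7, _
  decide +kernel

theorem cyc_chk : ∀ p ∈ [(cyc7, per7), (cyc5, per5)], ∀ j : Fin 8, ∀ l : Fin chevE7.rank,
    (∑ k : Fin chevE7.rank, bC j k * tblE7.coroot (wperm tblE7 p.1 (tblE7.simp' k)) l) = bC (p.2.getD j 0) l := by
  show ∀ p ∈ [(cyc7, per7), (cyc5, per5)], ∀ j : Fin 8, ∀ l : Fin 7,
    (∑ k : Fin 7, bC j k * tblE7.coroot (wperm tblE7 p.1 (tblE7.simp' k)) l) = _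
  decide +kernel

theorem cA_fixed {R : Type*} [CommRing R] (ι : R) {p : List ℕ × List ℕ} (hp : p ∈ [(cyc7, per7), (cyc5, per5)])
    {v : Vt R} (h : act7 p.1 v = v) (j : Fin 8) : cA ι v j = cA ι v (p.2.getD j 0) := by
  conv_lhs => rw [← h]
  simp only [cA, act7, act, AltSection.val, Finset.mul_sum]
  rw [Finset.sum_comm]
  refine Finset.sum_congr rfl fun l _ => ?_
  rw [← cyc_chk p hp j l, Int.cast_sum, Finset.sum_mul, Finset.mul_sum]
  exact Finset.sum_congr rfl fun k _ => by push_cast; ring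

theorem line7_chk : ((List.range 7).all fun t => (List.range 7).all fun s =>
    !(Nat.beq ((s + 7 * t) % 7) 0) || !(Nat.beq (histF 7 [sclL 7 5 [s, t, t, t, t, t, t, t]]) (histF 7 [[s, t, t, t, t, t, t, t]])) ||
      decide (s = 0 ∧ t = 0)) = true := by decide +kernel

theorem line5_chk : ((List.range 5).all fun a => (List.range 5).all fun t => (List.range 5).all fun b => (List.range 5).all fun c =>
    !(Nat.beq ((a + (5 * t + (b + c))) % 5) 0) ||
      !(Nat.beq (histF 5 [sclL 5 3 [a, t, t, t, t, t, b, c]]) (histF 5 [[a, t, t, t, t, t, b, c]])) ||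
      decide (a = 0 ∧ t = 0 ∧ b = 0 ∧ c = 0)) = true := by decide +kernel

theorem one_eight : (1 : ZMod 7) * 8 = 1 := by decide

theorem two_eight' : (2 : ZMod 5) * 8 = 1 := by decide

/-- No nonzero vector fixed by the word of order seven is scaled by a word. -/
theorem fixed_seven [Fact (Nat.Prime 7)] (v : Vt (ZMod 7)) (hv : v ≠ 0) (h : act7 cyc7 v = v)
    (w : List ℕ) (hw : IsWord chevE7 w) : act7 w v ≠ ((5 : ℕ) : ZMod 7) • v := by
  intro e
  have hh := hist_act (1 : ZMod 7) hw [v]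
  simp only [List.map_cons, List.map_nil, e, clist_smul, hist_eq_fast] at hh
  have hc := cA_fixed (1 : ZMod 7) (p := (cyc7, per7)) (by simp) h
  obtain ⟨c, hcd⟩ : ∃ c : ℕ → ℕ, ∀ i, c i = (cA (1 : ZMod 7) v i).val := ⟨_, fun _ => rfl⟩
  have h1 : ∀ j : Fin 8, c j = c (per7.getD j 0) := fun j => by rw [hcd, hcd, hc j]
  have a1 : c 1 = c 2 := h1 1
  have a2 : c 2 = c 3 := h1 2
  have a3 : c 3 = c 4 := h1 3
  have a4 : c 4 = c 5 := h1 4
  have a5 : c 5 = c 6 := h1 5
  have a6 : c 6 = c 7 := h1 6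
  have hl : clist (1 : ZMod 7) v = [c 0, c 1, c 1, c 1, c 1, c 1, c 1, c 1] := by
    simp only [clist, ← hcd]
    simp [List.range_succ, ← a1, ← a2, ← a3, ← a4, ← a5, ← a6]
  have hsum := clist_sum (ι := (1 : ZMod 7)) v
  rw [hl] at hh hsum
  have hlt : ∀ i, c i ∈ List.range 7 := fun i => List.mem_range.2 (hcd i ▸ ZMod.val_lt _)
  have hk := List.all_eq_true.1 (List.all_eq_true.1 line7_chk _ (hlt 1)) _ (hlt 0)
  have hs : (c 0 + 7 * c 1) % 7 = 0 := by
    simp only [List.sum_cons, List.sum_nil] at hsum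
    omega
  simp only [hs, hh, Nat.beq_refl, Bool.not_true, Bool.false_or, decide_eq_true_eq] at hk
  exact clist_ne_zero (ι := (1 : ZMod 7)) one_eight hv (by rw [hl, hk.1, hk.2]; rfl)

/-- No nonzero vector fixed by the word of order five is scaled by a word. -/
theorem fixed_five [Fact (Nat.Prime 5)] (v : Vt (ZMod 5)) (hv : v ≠ 0) (h : act7 cyc5 v = v)
    (w : List ℕ) (hw : IsWord chevE7 w) : act7 w v ≠ ((3 : ℕ) : ZMod 5) • v := by
  intro e
  have hh := hist_act (2 : ZMod 5) hw [v]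
  simp only [List.map_cons, List.map_nil, e, clist_smul, hist_eq_fast] at hh
  have hc := cA_fixed (2 : ZMod 5) (p := (cyc5, per5)) (by simp) h
  obtain ⟨c, hcd⟩ : ∃ c : ℕ → ℕ, ∀ i, c i = (cA (2 : ZMod 5) v i).val := ⟨_, fun _ => rfl⟩
  have h1 : ∀ j : Fin 8, c j = c (per5.getD j 0) := fun j => by rw [hcd, hcd, hc j]
  have a1 : c 1 = c 2 := h1 1
  have a2 : c 2 = c 3 := h1 2
  have a3 : c 3 = c 4 := h1 3
  have a4 : c 4 = c 5 := h1 4
  have hl : clist (2 : ZMod 5) v = [c 0, c 1, c 1, c 1, c 1, c 1, c 6, c 7] := by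
    simp only [clist, ← hcd]
    simp [List.range_succ, ← a1, ← a2, ← a3, ← a4]
  have hsum := clist_sum (ι := (2 : ZMod 5)) v
  rw [hl] at hh hsum
  have hlt : ∀ i, c i ∈ List.range 5 := fun i => List.mem_range.2 (hcd i ▸ ZMod.val_lt _)
  have hk := List.all_eq_true.1 (List.all_eq_true.1 (List.all_eq_true.1 (List.all_eq_true.1 line5_chk _ (hlt 0)) _
    (hlt 1)) _ (hlt 6)) _ (hlt 7)
  have hs : (c 0 + (5 * c 1 + (c 6 + c 7))) % 5 = 0 := by
    simp only [List.sum_cons, List.sum_nil] at hsum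
    omega
  simp only [hs, hh, Nat.beq_refl, Bool.not_true, Bool.false_or, decide_eq_true_eq] at hk
  exact clist_ne_zero (ι := (2 : ZMod 5)) two_eight' hv (by rw [hl, hk.1, hk.2.1, hk.2.2.1, hk.2.2.2]; rfl)

end Cfsg.Lib.Chev.E7Alt
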