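import Cfsg.Agent.Lib.Chev.AltSection.CoverLift

/-!
Exact lifts of two seven-cycles of the alternating group of degree fourteen and of three five-cycles of the
alternating group of degree fifteen, with elements of their normalisers.
-/

set_option autoImplicit false
set_option maxRecDepth 100000

namespace Cfsg.Lib.Chev.E7Alt

open Subgroup Cfsg.Lib.Chev.AltSection

/-- The alternating group of degree fourteen. -/
abbrev A14 := ↥(alternatingGroup (Fin 14))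

/-- The alternating group of degree fifteen. -/
abbrev A15 := ↥(alternatingGroup (Fin 15))

/-- The product of cycles given as lists. -/
def cyc {n : ℕ} (ls : List (List (Fin n))) : Equiv.Perm (Fin n) := (ls.map List.formPerm).prod

/-- The first seven-cycle. -/
def sA : A14 :=
  ⟨cyc [[0, 1, 2, 3, 4, 5, 6]], Equiv.Perm.mem_alternatingGroup.2 (by decide +kernel)⟩

/-- The second seven-cycle. -/
def sB : A14 :=
  ⟨cyc [[7, 8, 9, 10, 11, 12, 13]], Equiv.Perm.mem_alternatingGroup.2 (by decide +kernel)⟩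

/-- The squaring element of the first. -/
def sH : A14 :=
  ⟨cyc [[1, 2, 4], [3, 6, 5]], Equiv.Perm.mem_alternatingGroup.2 (by decide +kernel)⟩

/-- The squaring element of the second. -/
def sH' : A14 :=
  ⟨cyc [[8, 9, 11], [10, 13, 12]], Equiv.Perm.mem_alternatingGroup.2 (by decide +kernel)⟩

/-- The exchanging element. -/
def sG : A14 :=
  ⟨cyc [[0, 7], [1, 8, 3, 10, 2, 9, 6, 13, 4, 11, 5, 12]], Equiv.Perm.mem_alternatingGroup.2 (by decide +kernel)⟩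

theorem seven_facts : sA ^ 7 = 1 ∧ sB ^ 7 = 1 ∧ sA * sB = sB * sA ∧ sH * sA * sH⁻¹ = sA ^ 2 ∧
    sH * sB * sH⁻¹ = sB ^ 1 ∧ sH' * sB * sH'⁻¹ = sB ^ 2 ∧ sH' * sA * sH'⁻¹ = sA ∧
    sH * sH' * sH⁻¹ = sH' ∧
    sG * sA * sG⁻¹ = sB ^ 1 ∧ sG * sB * sG⁻¹ = sA ^ 3 ∧ sG * sH * sG⁻¹ = sH' ∧ sG * sH' * sG⁻¹ = sH ∧
    ∀ k : Fin 7, sB ≠ sA ^ (k : ℕ) := by
  decide +kernel

/-- The first five-cycle. -/
def fA : A15 :=
  ⟨cyc [[0, 1, 2, 3, 4]], Equiv.Perm.mem_alternatingGroup.2 (by decide +kernel)⟩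

/-- The second five-cycle. -/
def fB : A15 :=
  ⟨cyc [[5, 6, 7, 8, 9]], Equiv.Perm.mem_alternatingGroup.2 (by decide +kernel)⟩

/-- The third five-cycle. -/
def fC : A15 :=
  ⟨cyc [[10, 11, 12, 13, 14]], Equiv.Perm.mem_alternatingGroup.2 (by decide +kernel)⟩

/-- The element squaring the first two. -/
def f0 : A15 :=
  ⟨cyc [[1, 2, 4, 3], [6, 7, 9, 8]], Equiv.Perm.mem_alternatingGroup.2 (by decide +kernel)⟩

/-- The element squaring the last two. -/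
def f1 : A15 :=
  ⟨cyc [[6, 7, 9, 8], [11, 12, 14, 13]], Equiv.Perm.mem_alternatingGroup.2 (by decide +kernel)⟩

/-- The element squaring the first and the last. -/
def f3 : A15 :=
  ⟨cyc [[1, 2, 4, 3], [11, 12, 14, 13]], Equiv.Perm.mem_alternatingGroup.2 (by decide +kernel)⟩

/-- The element inverting the first. -/
def f2 : A15 :=
  ⟨cyc [[1, 4], [2, 3]], Equiv.Perm.mem_alternatingGroup.2 (by decide +kernel)⟩

/-- The exchanging element. -/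
def fG : A15 :=
  ⟨cyc [[0, 5], [1, 6, 2, 7, 4, 9, 3, 8]], Equiv.Perm.mem_alternatingGroup.2 (by decide +kernel)⟩

theorem five_facts0 : fA ^ 5 = 1 ∧ fB ^ 5 = 1 ∧ fC ^ 5 = 1 ∧
    fA * fB = fB * fA ∧ fA * fC = fC * fA ∧ fB * fC = fC * fB := by
  decide +kernel

theorem five_facts1 : f0 * fA * f0⁻¹ = fA ^ 2 ∧ f0 * fB * f0⁻¹ = fB ^ 2 ∧ f0 * fC * f0⁻¹ = fC ^ 1 ∧
    f1 * fA * f1⁻¹ = fA ^ 1 ∧ f1 * fB * f1⁻¹ = fB ^ 2 ∧ f1 * fC * f1⁻¹ = fC ^ 2 := by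
  decide +kernel

theorem five_facts2 : f3 * fA * f3⁻¹ = fA ^ 2 ∧ f3 * fB * f3⁻¹ = fB ^ 1 ∧ f3 * fC * f3⁻¹ = fC ^ 2 ∧
    f2 * fA * f2⁻¹ = fA ^ 4 ∧ f2 * fB * f2⁻¹ = fB ^ 1 ∧ f2 * fC * f2⁻¹ = fC ^ 1 := by
  decide +kernel

theorem five_facts3 : fG * fA * fG⁻¹ = fB ^ 1 ∧ fG * fB * fG⁻¹ = fA ^ 2 ∧ fG * fC * fG⁻¹ = fC ^ 1 := by
  decide +kernel

theorem five_comm : (f0 * f1 * f0⁻¹ = f1 ∧ f1 * f0 * f1⁻¹ = f0) ∧ (f3 * f0 * f3⁻¹ = f0 ∧ f3 * f1 * f3⁻¹ = f1) ∧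
    (f2 * f0 * f2⁻¹ = f0 ∧ f2 * f1 * f2⁻¹ = f1) ∧ (fG * f0 * fG⁻¹ = f0 ∧ fG * f1 * fG⁻¹ = f3) ∧
    ∀ p q : Fin 5, fC ≠ fA ^ (p : ℕ) * fB ^ (q : ℕ) ∧ fB ≠ fA ^ (p : ℕ) := by
  decide +kernel

attribute [local irreducible] sA sB sH sH' sG fA fB fC f0 f1 f2 f3 fG

theorem fold_pow {G : Type*} [Monoid G] {a : G} {ℓ : ℕ} (h : a ^ ℓ = 1) (k : ℕ) : a ^ k = a ^ (k % ℓ) := by
  conv_lhs => rw [← Nat.mod_add_div k ℓ, pow_add, pow_mul, h, one_pow, mul_one]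

variable {H : Type*} [Group H] [Finite H]

/-- Exact lifts of the two seven-cycles. -/
theorem exists_seven (π : H →* A14) (hπ : Function.Surjective π) (hmin : ∀ M : Subgroup H, M.map π = ⊤ → M = ⊤)
    (hrank : ∀ P : Subgroup H, IsPGroup 7 P → (frattini ↥P).index ≤ 7 ^ 8) :
    ∃ a b g h : H, a ^ 7 = 1 ∧ b ^ 7 = 1 ∧ a * b = b * a ∧ π a = sA ∧ π b = sB ∧
      g * a * g⁻¹ = b ∧ g * b * g⁻¹ = a ^ 3 ∧ h * a * h⁻¹ = a ^ 2 ∧ h * b * h⁻¹ = b := by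
  haveI : Fact (Nat.Prime 7) := ⟨by norm_num⟩
  obtain ⟨hA, hB, hAB, hHA, hHB, hH'B, hH'A, hHH', hGA, hGB, hGH, hGH', -⟩ := seven_facts
  have hZ : ∀ Q : Subgroup H, IsPGroup 7 Q → Q ≤ π.ker → ∀ z ∈ Q, ∀ h, h * z = z * h := fun Q hQ hk z hz h =>
    kernel_central π hπ hmin (by norm_num) (by norm_num) (N := 8) (by norm_num) hrank hQ hk hz h
  let E : Subgroup A14 := closure {sA, sB}
  have hA' : sA ∈ E := subset_closure (by simp)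
  have hB' : sB ∈ E := subset_closure (by simp)
  have hE : IsPGroup 7 E := closure_pgroup
    (by rintro x (rfl | rfl) y (rfl | rfl) <;> first | rfl | exact hAB | exact hAB.symm)
    (by rintro x (rfl | rfl) <;> assumption)
  obtain ⟨P, hP, hPE, hlift⟩ := exists_sylow_over π hπ hE
  have hN : ∀ s : A14, s * sA * s⁻¹ ∈ E → s * sB * s⁻¹ ∈ E → ∃ y ∈ normalizer (P : Set H), π y = s :=
    fun s h1 h2 => hlift s (mem_normalizer_closure (by rintro x (rfl | rfl) <;> assumption))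
  obtain ⟨h, hh, eh⟩ := hN sH (hHA ▸ pow_mem hA' 2) (hHB ▸ pow_mem hB' 1)
  obtain ⟨h', hh', eh'⟩ := hN sH' (hH'A.symm ▸ hA') (hH'B ▸ pow_mem hB' 2)
  obtain ⟨g, hg, eg⟩ := hN sG (hGA ▸ pow_mem hB' 1) (hGB ▸ pow_mem hA' 3)
  obtain ⟨a, haP, ea, ha, hha⟩ := exists_exact π hP hZ hh (hPE.ge hA') hA (by rw [eh, hHA])
  obtain ⟨b, hbP, eb, hb, hhb⟩ := exists_exact π hP hZ hh' (hPE.ge hB') hB (by rw [eh', hH'B])
  have hb1 := exact_act π hP hZ hh' hh' hh hbP hbP hb hhb hhb (r := 1) (by rw [eh, eh', hHH'])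
    (by rw [eh, eb, hHB])
  have hga := exact_act π hP hZ hh hh' hg haP hbP ha hha hhb (r := 1) (by rw [eg, eh, eh', hGH])
    (by rw [eg, ea, eb, hGA])
  have hgb := exact_act π hP hZ hh' hh hg hbP haP hb hhb hha (r := 3) (by rw [eg, eh', eh, hGH'])
    (by rw [eg, ea, eb, hGB])
  rw [pow_one] at hb1 hga
  exact ⟨a, b, g, h, ha, hb, exact_comm π hP hZ haP hbP (by rw [ea, eb, hAB]) hha hb1, ea, eb, hga, hgb, hha, hb1⟩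

/-- Exact lifts of the three five-cycles. -/
theorem exists_five (π : H →* A15) (hπ : Function.Surjective π) (hmin : ∀ M : Subgroup H, M.map π = ⊤ → M = ⊤)
    (hrank : ∀ P : Subgroup H, IsPGroup 5 P → (frattini ↥P).index ≤ 5 ^ 8) :
    ∃ a b c s₀ s₁ s₂ g : H, (a ^ 5 = 1 ∧ b ^ 5 = 1 ∧ c ^ 5 = 1) ∧ (a * b = b * a ∧ a * c = c * a ∧ b * c = c * b) ∧
      (π a = fA ∧ π b = fB ∧ π c = fC) ∧
      (s₀ * a * s₀⁻¹ = a ^ 2 ∧ s₀ * b * s₀⁻¹ = b ^ 2 ∧ s₀ * c * s₀⁻¹ = c) ∧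
      (s₁ * a * s₁⁻¹ = a ∧ s₁ * b * s₁⁻¹ = b ^ 2 ∧ s₁ * c * s₁⁻¹ = c ^ 2) ∧
      (s₂ * a * s₂⁻¹ = a ^ 4 ∧ s₂ * b * s₂⁻¹ = b ∧ s₂ * c * s₂⁻¹ = c) ∧
      (g * a * g⁻¹ = b ∧ g * b * g⁻¹ = a ^ 2 ∧ g * c * g⁻¹ = c) := by
  haveI : Fact (Nat.Prime 5) := ⟨by norm_num⟩
  obtain ⟨hA, hB, hC, hAB, hAC, hBC⟩ := five_facts0
  obtain ⟨h0A, h0B, h0C, h1A, h1B, h1C⟩ := five_facts1
  obtain ⟨h3A, h3B, h3C, h2A, h2B, h2C⟩ := five_facts2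
  obtain ⟨hGA, hGB, hGC⟩ := five_facts3
  obtain ⟨⟨h01, h10⟩, ⟨h30, h31⟩, ⟨h20, h21⟩, ⟨hg0, hg1⟩, -⟩ := five_comm
  have hZ : ∀ Q : Subgroup H, IsPGroup 5 Q → Q ≤ π.ker → ∀ z ∈ Q, ∀ h, h * z = z * h := fun Q hQ hk z hz h =>
    kernel_central π hπ hmin (by norm_num) (by norm_num) (N := 8) (by norm_num) hrank hQ hk hz h
  let E : Subgroup A15 := closure {fA, fB, fC}
  have hA' : fA ∈ E := subset_closure (by simp)
  have hB' : fB ∈ E := subset_closure (by simp)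
  have hC' : fC ∈ E := subset_closure (by simp)
  have hE : IsPGroup 5 E := closure_pgroup
    (by rintro x (rfl | rfl | rfl) y (rfl | rfl | rfl) <;>
      first | rfl | exact hAB | exact hAC | exact hBC | exact hAB.symm | exact hAC.symm | exact hBC.symm)
    (by rintro x (rfl | rfl | rfl) <;> assumption)
  obtain ⟨P, hP, hPE, hlift⟩ := exists_sylow_over π hπ hE
  have hN : ∀ s : A15, (∃ k : ℕ, s * fA * s⁻¹ = fA ^ k ∨ s * fA * s⁻¹ = fB ^ k) →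
      (∃ k : ℕ, s * fB * s⁻¹ = fB ^ k ∨ s * fB * s⁻¹ = fA ^ k) → (∃ k : ℕ, s * fC * s⁻¹ = fC ^ k) →
      ∃ y ∈ normalizer (P : Set H), π y = s := fun s h1 h2 h3 => hlift s (mem_normalizer_closure (by
    obtain ⟨i, hi⟩ := h1
    obtain ⟨j, hj⟩ := h2
    obtain ⟨k, hk⟩ := h3
    rintro x (rfl | rfl | rfl)
    · rcases hi with e | e <;> rw [e] <;> exact pow_mem (by assumption) _
    · rcases hj with e | e <;> rw [e] <;> exact pow_mem (by assumption) _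
    · rw [hk]; exact pow_mem hC' _))
  obtain ⟨s₀, hs₀, e0⟩ := hN f0 ⟨2, Or.inl h0A⟩ ⟨2, Or.inl h0B⟩ ⟨1, h0C⟩
  obtain ⟨s₁, hs₁, e1⟩ := hN f1 ⟨1, Or.inl h1A⟩ ⟨2, Or.inl h1B⟩ ⟨2, h1C⟩
  obtain ⟨s₃, hs₃, e3⟩ := hN f3 ⟨2, Or.inl h3A⟩ ⟨1, Or.inl h3B⟩ ⟨2, h3C⟩
  obtain ⟨s₂, hs₂, e2⟩ := hN f2 ⟨4, Or.inl h2A⟩ ⟨1, Or.inl h2B⟩ ⟨1, h2C⟩
  obtain ⟨g, hg, eg⟩ := hN fG ⟨1, Or.inr hGA⟩ ⟨2, Or.inr hGB⟩ ⟨1, hGC⟩
  obtain ⟨a, haP, ea, ha, qa⟩ := exists_exact π hP hZ hs₀ (hPE.ge hA') hA (by rw [e0, h0A])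
  obtain ⟨b, hbP, eb, hb, qb⟩ := exists_exact π hP hZ hs₀ (hPE.ge hB') hB (by rw [e0, h0B])
  obtain ⟨c, hcP, ec, hc, qc⟩ := exists_exact π hP hZ hs₁ (hPE.ge hC') hC (by rw [e1, h1C])
  have k0c := exact_act π hP hZ hs₁ hs₁ hs₀ hcP hcP hc qc qc (r := 1) (by rw [e0, e1, h01]) (by rw [e0, ec, h0C])
  have k1a := exact_act π hP hZ hs₀ hs₀ hs₁ haP haP ha qa qa (r := 1) (by rw [e0, e1, h10]) (by rw [e1, ea, h1A])
  have k1b := exact_act π hP hZ hs₀ hs₀ hs₁ hbP hbP hb qb qb (r := 2) (by rw [e0, e1, h10]) (by rw [e1, eb, h1B])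
  have k3a := exact_act π hP hZ hs₀ hs₀ hs₃ haP haP ha qa qa (r := 2) (by rw [e0, e3, h30]) (by rw [e3, ea, h3A])
  have k3b := exact_act π hP hZ hs₀ hs₀ hs₃ hbP hbP hb qb qb (r := 1) (by rw [e0, e3, h30]) (by rw [e3, eb, h3B])
  have k3c := exact_act π hP hZ hs₁ hs₁ hs₃ hcP hcP hc qc qc (r := 2) (by rw [e1, e3, h31]) (by rw [e3, ec, h3C])
  have k2a := exact_act π hP hZ hs₀ hs₀ hs₂ haP haP ha qa qa (r := 4) (by rw [e0, e2, h20]) (by rw [e2, ea, h2A])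
  have k2b := exact_act π hP hZ hs₀ hs₀ hs₂ hbP hbP hb qb qb (r := 1) (by rw [e0, e2, h20]) (by rw [e2, eb, h2B])
  have k2c := exact_act π hP hZ hs₁ hs₁ hs₂ hcP hcP hc qc qc (r := 1) (by rw [e1, e2, h21]) (by rw [e2, ec, h2C])
  have kga := exact_act π hP hZ hs₀ hs₀ hg haP hbP ha qa qb (r := 1) (by rw [e0, eg, hg0]) (by rw [eg, ea, eb, hGA])
  have kgb := exact_act π hP hZ hs₀ hs₀ hg hbP haP hb qb qa (r := 2) (by rw [e0, eg, hg0]) (by rw [eg, ea, eb, hGB])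
  have kgc := exact_act π hP hZ hs₁ hs₃ hg hcP hcP hc qc k3c (r := 1) (by rw [e1, e3, eg, hg1]) (by rw [eg, ec, hGC])
  rw [pow_one] at k0c k1a k3b k2b k2c kga kgc
  exact ⟨a, b, c, s₀, s₁, s₂, g, ⟨ha, hb, hc⟩,
    ⟨exact_comm π hP hZ haP hbP (by rw [ea, eb, hAB]) k3a k3b,
      (exact_comm π hP hZ hcP haP (by rw [ea, ec, hAC]) qc k1a).symm,
      exact_comm π hP hZ hbP hcP (by rw [eb, ec, hBC]) qb k0c⟩,
    ⟨ea, eb, ec⟩, ⟨qa, qb, k0c⟩, ⟨k1a, k1b, qc⟩, ⟨k2a, k2b, k2c⟩, ⟨kga, kgb, kgc⟩⟩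

end Cfsg.Lib.Chev.E7Alt
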