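import Cfsg.Agent.Lib.Chev.E7Alt.Seven
import Cfsg.Agent.Lib.Chev.E7Alt.Five
import Cfsg.Agent.Lib.Chev.E7Alt.Fixed
import Cfsg.Agent.Lib.Chev.E7Alt.Perms
import Cfsg.Agent.Lib.Chev.AltSection.PrimePlace
import Cfsg.Agent.Lib.Chev.AltSection.Section
import Cfsg.Agent.Lib.Chev.OrderE7

/-!
Alternating sections of the groups of type E7: none of degree fourteen in characteristic other than seven and
none of degree fifteen.
-/

set_option autoImplicit false
set_option linter.unusedSectionVars false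
set_option maxRecDepth 100000

namespace Cfsg.Lib.Chev.E7Alt

open Cfsg.Lie Cfsg.Lib.Chev.AltSection

variable {F : Type*} [Field F] [Fintype F]

set_option quotPrecheck false in
local notation "G7" => ↥(chevE7.group F)

theorem prod_lens : ∏ j ∈ Finset.range chevE7.rank, (nth ([], []) weylE7 j).1.length = 2903040 := by decide +kernel

theorem exists_root {n : ℕ} (hn : 1 < n) (hq : Nat.card F % n = 1) : ∃ l : Fˣ, orderOf l = n := by
  have hdvd : n ∣ Nat.card Fˣ := by
    rw [Nat.card_units]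
    refine (Nat.modEq_iff_dvd' Nat.card_pos).1 ?_
    rw [Nat.ModEq, hq, Nat.one_mod_eq_one.2 (by omega)]
  obtain ⟨u, hu⟩ := IsCyclic.exists_ofOrder_eq_natCard (α := Fˣ)
  obtain ⟨m, hm⟩ := hdvd
  have hm0 : 0 < m := by
    rcases Nat.eq_zero_or_pos m with rfl | h
    · rw [mul_zero] at hm
      exact absurd hm Nat.card_pos.ne'
    · exact h
  exact ⟨u ^ m, by rw [orderOf_pow' u hm0.ne', hu, hm, Nat.gcd_mul_left_left, Nat.mul_div_cancel _ hm0]⟩

/-- The roots of unity for a prime cubed. -/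
theorem exists_setup {ℓ : ℕ} [hℓ : Fact ℓ.Prime] (hn : ¬ ℓ ^ 2 ∣ 2903040) (hq : Nat.card F % ℓ ^ 3 = 1) :
    ∃ (l : Fˣ) (ζ : F), orderOf l = ℓ ^ 3 ∧ IsPrimitiveRoot ζ ℓ ∧ ¬ ℓ ^ 2 ∣ (Tdg chevE7 F).index := by
  have h2 : Nat.card F % ℓ ^ 2 = 1 := by
    rw [← Nat.mod_mod_of_dvd _ (pow_dvd_pow ℓ (by norm_num : 2 ≤ 3)), hq]
    exact Nat.mod_eq_of_lt (Nat.one_lt_pow (by norm_num) hℓ.out.one_lt)
  obtain ⟨l, hl⟩ := exists_root (F := F) (Nat.one_lt_pow (by norm_num : 3 ≠ 0) hℓ.out.one_lt) hq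
  refine ⟨l, ((l ^ ℓ ^ 2 : Fˣ) : F), hl, ?_, index_sq cert7 fullCertE7 chkWeylE7 h2 (by rw [prod_lens]; exact hn)⟩
  rw [IsPrimitiveRoot.coe_units_iff, IsPrimitiveRoot.iff_orderOf, orderOf_pow' l (pow_ne_zero 2 hℓ.out.ne_zero), hl,
    Nat.gcd_eq_right (pow_dvd_pow ℓ (by norm_num : 2 ≤ 3)), Nat.pow_div (by norm_num : 2 ≤ 3) hℓ.out.pos, pow_one]

/-- A surjection restricted to a minimal cover. -/
theorem exists_cover {H A : Type*} [Group H] [Finite H] [Group A] (π : H →* A) (hπ : Function.Surjective π) :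
    ∃ L : Subgroup H, Function.Surjective (π.comp L.subtype) ∧
      ∀ M : Subgroup L, M.map (π.comp L.subtype) = ⊤ → M = ⊤ := by
  classical
  have hex : ∃ n, ∃ L : Subgroup H, L.map π = ⊤ ∧ Nat.card L = n :=
    ⟨_, ⊤, Subgroup.map_top_of_surjective π hπ, rfl⟩
  obtain ⟨L, hL, hn⟩ := Nat.find_spec hex
  refine ⟨L, fun x => ?_, fun M hM => Subgroup.eq_top_of_le_card M ?_⟩
  · obtain ⟨y, hy, e⟩ := hL.ge (Subgroup.mem_top x)
    exact ⟨⟨y, hy⟩, e⟩
  · rw [hn, ← Subgroup.card_map_of_injective L.subtype_injective]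
    exact Nat.find_min' hex ⟨M.map L.subtype, by rw [Subgroup.map_map]; exact hM, rfl⟩

/-- The powers of a conjugate give the relation between the exponents. -/
theorem act_of_conj {ℓ : ℕ} [Fact ℓ.Prime] {ζ : F} (hζ : IsPrimitiveRoot ζ ℓ) (s : G7) :
    ∃ w, IsWord chevE7 w ∧ ∀ (t t' : G7) (c e : Fin chevE7.rank → Fˣ) (v v' : Vt (ZMod ℓ)) (r k : ℕ),
      (t : GL chevE7.Idx F) = torusHom chevE7 tblE7 F c → HasVec chevE7 tblE7 ζ c v →
      (t' : GL chevE7.Idx F) = torusHom chevE7 tblE7 F e → HasVec chevE7 tblE7 ζ e v' →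
      s * t * s⁻¹ = t' ^ r → (r : ZMod ℓ) * (k : ZMod ℓ) = 1 → act7 w v' = (k : ZMod ℓ) • v := by
  obtain ⟨w, hw, hact⟩ := exists_word_conj cert7 fullCertE7 hζ s
  refine ⟨w, hw, fun t t' c e v v' r k hc hv he hv' h hrk => ?_⟩
  have h1 := hact t (t' ^ r) c (e ^ r) v ((r : ZMod ℓ) • v') hc hv (by rw [SubmonoidClass.coe_pow, he, map_pow])
    (hv'.pow cert7 hζ r) h
  rw [act_smul] at h1
  calc act7 w v' = ((k : ZMod ℓ) * (r : ZMod ℓ)) • act7 w v' := by rw [mul_comm, hrk, one_smul]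
    _ = (k : ZMod ℓ) • v := by rw [mul_smul]; exact congrArg _ h1

theorem units7 : ((3 : ℕ) : ZMod 7) * ((5 : ℕ) : ZMod 7) = 1 ∧ ((2 : ℕ) : ZMod 7) * ((4 : ℕ) : ZMod 7) = 1 := by decide

theorem units5 : ((2 : ℕ) : ZMod 5) * ((3 : ℕ) : ZMod 5) = 1 ∧ ((4 : ℕ) : ZMod 5) * ((4 : ℕ) : ZMod 5) = 1 := by decide

/-- No section of degree fourteen. -/
theorem no_A14 (hq : Nat.card F % 7 ^ 3 = 1) {H : Type*} [Group H] [Finite H] (f : H →* G7)
    (hf : Function.Injective f) (π : H →* A14) (hπ : Function.Surjective π) : False := by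
  classical
  haveI : Fact (Nat.Prime 7) := ⟨by norm_num⟩
  obtain ⟨L, hπL, hmin⟩ := exists_cover π hπ
  obtain ⟨l, ζ, hl, hζ, hidx⟩ := exists_setup (F := F) (ℓ := 7) (by norm_num) hq
  obtain ⟨a, b, g, h, ha, hb, hab, ea, eb, hga, hgb, hha, hhb⟩ := exists_seven (π.comp L.subtype) hπL hmin
    fun P hP => frattini_index cert7 fullCertE7 cart_lin hidx hζ hP ((f.comp L.subtype).comp P.subtype)
      (hf.comp (L.subtype_injective.comp P.subtype_injective))
  let P : Subgroup L := Subgroup.closure {a, b}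
  haveI hPc : IsMulCommutative P := Subgroup.isMulCommutative_closure (by
    rintro x (rfl | rfl) y (rfl | rfl) <;> first | rfl | exact hab | exact hab.symm)
  have hc : ∀ x ∈ P, ∀ y ∈ P, x * y = y * x := fun x hx y hy =>
    congrArg Subtype.val (hPc.is_comm.comm ⟨x, hx⟩ ⟨y, hy⟩)
  have hg2 : ∀ x ∈ P, g * g * x * (g * g)⁻¹ = x ^ 3 ∧ x ^ 7 = 1 := by
    intro x hx
    induction hx using Subgroup.closure_induction with
    | mem x hx =>
      rcases hx with rfl | rfl
      · exact ⟨by rw [show g * g * x * (g * g)⁻¹ = g * (g * x * g⁻¹) * g⁻¹ by group, hga, hgb], ha⟩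
      · exact ⟨by rw [show g * g * x * (g * g)⁻¹ = g * (g * x * g⁻¹) * g⁻¹ by group, hgb, ← conj_pow, hga], hb⟩
    | one => simp
    | mul x y hx hy ihx ihy =>
      have hxy : Commute x y := hc x hx y hy
      exact ⟨by rw [show g * g * (x * y) * (g * g)⁻¹ = (g * g * x * (g * g)⁻¹) * (g * g * y * (g * g)⁻¹) by group,
        ihx.1, ihy.1, hxy.mul_pow], by rw [hxy.mul_pow, ihx.2, ihy.2, one_mul]⟩
    | inv x _ ih =>
      exact ⟨by rw [← conj_inv, ih.1, inv_pow],
        by rw [inv_pow, ih.2, inv_one]⟩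
  obtain ⟨hsA, -, -, -, -, -, -, -, -, -, -, -, hne⟩ := seven_facts
  have hbig : 7 < Nat.card P := by
    let e : Fin 7 ⊕ Fin 1 → P := Sum.elim
      (fun i => ⟨a ^ (i : ℕ), pow_mem (Subgroup.subset_closure (by simp)) _⟩)
      fun _ => ⟨b, Subgroup.subset_closure (by simp)⟩
    have he : Function.Injective e := by
      rintro (i | i) (j | j) h1
      · have h2 := congrArg (fun x : P => (π.comp L.subtype) x) h1
        simp only [e, Sum.elim_inl, map_pow, ea] at h2
        exact congrArg Sum.inl (Fin.ext (pow_injOn_Iio_orderOf (by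
          rw [Set.mem_Iio, orderOf_eq_prime hsA (fun h0 => hne 0 (by
            have := hga; rw [Fin.val_zero, pow_zero, ← eb, ← this, map_mul, map_mul, ea, h0, mul_one, map_inv,
              mul_inv_cancel]))]
          exact i.2) (by
          rw [Set.mem_Iio, orderOf_eq_prime hsA (fun h0 => hne 0 (by
            have := hga; rw [Fin.val_zero, pow_zero, ← eb, ← this, map_mul, map_mul, ea, h0, mul_one, map_inv,
              mul_inv_cancel]))]
          exact j.2) h2))
      · have h2 := congrArg (fun x : P => (π.comp L.subtype) x) h1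
        simp only [e, Sum.elim_inl, Sum.elim_inr, map_pow, ea, eb] at h2
        exact absurd h2.symm (hne i)
      · have h2 := congrArg (fun x : P => (π.comp L.subtype) x) h1
        simp only [e, Sum.elim_inl, Sum.elim_inr, map_pow, ea, eb] at h2
        exact absurd h2 (hne j)
      · exact congrArg Sum.inr (Subsingleton.elim _ _)
    have := Nat.card_le_card_of_injective e he
    simp at this
    omega
  obtain ⟨φ, hφ, hT⟩ := exists_placed cert7 fullCertE7 cart_lin reg7 hl (by rw [hl]; norm_num) hidx hζ cyc7_word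
    cyc_exp.1 (r := 3) (k := 5) units7.1 fixed_seven (f.comp L.subtype) (hf.comp L.subtype_injective)
    (fun x hx => (hg2 x hx).2) hc (le_refl P) hbig (fun x hx => (hg2 x hx).1)
  have haP : a ∈ P := Subgroup.subset_closure (by simp)
  have hbP : b ∈ P := Subgroup.subset_closure (by simp)
  obtain ⟨ca, va, hca, hva, -⟩ := exists_vec_of cert7 fullCertE7 cart_lin hζ (hT a haP) (by rw [← map_pow, ha, map_one])
  obtain ⟨cb, vb, hcb, hvb, -⟩ := exists_vec_of cert7 fullCertE7 cart_lin hζ (hT b hbP) (by rw [← map_pow, hb, map_one])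
  obtain ⟨wg, hwg, hgact⟩ := act_of_conj hζ (φ g)
  obtain ⟨wh, hwh, hhact⟩ := act_of_conj hζ (φ h)
  refine no_seven (x := va) (y := vb) (fun k e => ?_) hwg hwh ?_ ?_ ?_ ?_
  · refine hne ⟨k % 7, Nat.mod_lt _ (by norm_num)⟩ ?_
    have h1 : φ b = φ (a ^ k) := Subtype.ext (by
      rw [map_pow, SubmonoidClass.coe_pow, hcb, hca, ← map_pow]
      exact tH_eq_of_vec cert7 cart_lin hζ hvb (e ▸ hva.pow cert7 hζ k))
    rw [← eb, hφ h1, map_pow, ea]
    exact fold_pow hsA k
  · simpa using hgact (φ a) (φ b) ca cb va vb 1 1 hca hva hcb hvb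
      (by rw [← map_inv, ← map_mul, ← map_mul, hga, pow_one]) (by simp)
  · exact hgact (φ b) (φ a) cb ca vb va 3 5 hcb hvb hca hva
      (by rw [← map_inv, ← map_mul, ← map_mul, hgb, map_pow]) units7.1
  · exact hhact (φ a) (φ a) ca ca va va 2 4 hca hva hca hva
      (by rw [← map_inv, ← map_mul, ← map_mul, hha, map_pow]) units7.2
  · simpa using hhact (φ b) (φ b) cb cb vb vb 1 1 hcb hvb hcb hvb
      (by rw [← map_inv, ← map_mul, ← map_mul, hhb, pow_one]) (by simp)

/-- No section of degree fifteen. -/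
theorem no_A15 (hq : Nat.card F % 5 ^ 3 = 1) {H : Type*} [Group H] [Finite H] (f : H →* G7)
    (hf : Function.Injective f) (π : H →* A15) (hπ : Function.Surjective π) : False := by
  classical
  haveI : Fact (Nat.Prime 5) := ⟨by norm_num⟩
  obtain ⟨L, hπL, hmin⟩ := exists_cover π hπ
  obtain ⟨l, ζ, hl, hζ, hidx⟩ := exists_setup (F := F) (ℓ := 5) (by norm_num) hq
  obtain ⟨a, b, c, s₀, s₁, s₂, g, ⟨ha, hb, hc'⟩, ⟨hab, hac, hbc⟩, ⟨ea, eb, ec⟩, ⟨h0a, h0b, h0c⟩, ⟨h1a, h1b, h1c⟩,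
      ⟨h2a, h2b, h2c⟩, ⟨hga, hgb, hgc⟩⟩ :=
    exists_five (π.comp L.subtype) hπL hmin
      fun P hP => frattini_index cert7 fullCertE7 cart_lin hidx hζ hP ((f.comp L.subtype).comp P.subtype)
        (hf.comp (L.subtype_injective.comp P.subtype_injective))
  let P : Subgroup L := Subgroup.closure {a, b, c}
  let P₀ : Subgroup L := Subgroup.closure {a, b}
  haveI hPc : IsMulCommutative P := Subgroup.isMulCommutative_closure (by
    rintro x (rfl | rfl | rfl) y (rfl | rfl | rfl) <;>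
      first | rfl | exact hab | exact hac | exact hbc | exact hab.symm | exact hac.symm | exact hbc.symm)
  have hc : ∀ x ∈ P, ∀ y ∈ P, x * y = y * x := fun x hx y hy =>
    congrArg Subtype.val (hPc.is_comm.comm ⟨x, hx⟩ ⟨y, hy⟩)
  have hle : P₀ ≤ P := Subgroup.closure_mono (by rintro x (rfl | rfl) <;> simp)
  have h5 : ∀ x ∈ P, x ^ 5 = 1 := by
    intro x hx
    induction hx using Subgroup.closure_induction with
    | mem x hx => rcases hx with rfl | rfl | rfl <;> assumption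
    | one => exact one_pow 5
    | mul x y hx hy ihx ihy => rw [(show Commute x y from hc x hx y hy).mul_pow, ihx, ihy, one_mul]
    | inv x _ ih => rw [inv_pow, ih, inv_one]
  have hs : ∀ x ∈ P₀, s₀ * x * s₀⁻¹ = x ^ 2 := by
    intro x hx
    induction hx using Subgroup.closure_induction with
    | mem x hx => rcases hx with rfl | rfl <;> assumption
    | one => simp
    | mul x y hx hy ihx ihy =>
      rw [show s₀ * (x * y) * s₀⁻¹ = (s₀ * x * s₀⁻¹) * (s₀ * y * s₀⁻¹) by group, ihx, ihy,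
        (show Commute x y from hc x (hle hx) y (hle hy)).mul_pow]
    | inv x _ ih => rw [show s₀ * x⁻¹ * s₀⁻¹ = (s₀ * x * s₀⁻¹)⁻¹ by group, ih, inv_pow]
  obtain ⟨-, -, -, -, hne⟩ := five_comm
  obtain ⟨hfA, hfB, -⟩ := five_facts0
  have hbig : 5 < Nat.card P₀ := by
    let e : Fin 5 ⊕ Fin 1 → P₀ := Sum.elim
      (fun i => ⟨a ^ (i : ℕ), pow_mem (Subgroup.subset_closure (by simp)) _⟩)
      fun _ => ⟨b, Subgroup.subset_closure (by simp)⟩
    have hfo : orderOf fA = 5 := orderOf_eq_prime hfA fun h0 => (hne 0 0).2 (by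
      have := hga
      rw [Fin.val_zero, pow_zero, ← eb, ← this, map_mul, map_mul, ea, h0, mul_one, map_inv, mul_inv_cancel])
    have he : Function.Injective e := by
      rintro (i | i) (j | j) h1
      · have h2 := congrArg (fun x : P₀ => (π.comp L.subtype) x) h1
        simp only [e, Sum.elim_inl, map_pow, ea] at h2
        exact congrArg Sum.inl (Fin.ext (pow_injOn_Iio_orderOf (by rw [Set.mem_Iio, hfo]; exact i.2)
          (by rw [Set.mem_Iio, hfo]; exact j.2) h2))
      · have h2 := congrArg (fun x : P₀ => (π.comp L.subtype) x) h1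
        simp only [e, Sum.elim_inl, Sum.elim_inr, map_pow, ea, eb] at h2
        exact absurd h2.symm (hne i i).2
      · have h2 := congrArg (fun x : P₀ => (π.comp L.subtype) x) h1
        simp only [e, Sum.elim_inl, Sum.elim_inr, map_pow, ea, eb] at h2
        exact absurd h2 (hne j j).2
      · exact congrArg Sum.inr (Subsingleton.elim _ _)
    have := Nat.card_le_card_of_injective e he
    simp at this
    omega
  obtain ⟨φ, hφ, hT⟩ := exists_placed cert7 fullCertE7 cart_lin reg7 hl (by rw [hl]; norm_num) hidx hζ cyc5_word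
    cyc_exp.2 (r := 2) (k := 3) units5.1 fixed_five (f.comp L.subtype) (hf.comp L.subtype_injective)
    h5 hc hle hbig hs
  obtain ⟨ca, va, hca, hva, hane⟩ := exists_vec_of cert7 fullCertE7 cart_lin hζ
    (hT a (Subgroup.subset_closure (by simp))) (by rw [← map_pow, ha, map_one])
  obtain ⟨cb, vb, hcb, hvb, -⟩ := exists_vec_of cert7 fullCertE7 cart_lin hζ
    (hT b (Subgroup.subset_closure (by simp))) (by rw [← map_pow, hb, map_one])
  obtain ⟨cc, vc, hcc, hvc, -⟩ := exists_vec_of cert7 fullCertE7 cart_lin hζ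
    (hT c (Subgroup.subset_closure (by simp))) (by rw [← map_pow, hc', map_one])
  obtain ⟨w0, hw0, h0act⟩ := act_of_conj hζ (φ s₀)
  obtain ⟨w1, hw1, h1act⟩ := act_of_conj hζ (φ s₁)
  obtain ⟨w2, hw2, h2act⟩ := act_of_conj hζ (φ s₂)
  obtain ⟨wg, hwg, hgact⟩ := act_of_conj hζ (φ g)
  refine no_five (x := va) (y := vb) (z := vc) (hane fun h0 => ?_) (fun k e => ?_) (fun p q e => ?_)
    hw0 hw1 hw2 hwg ⟨?_, ?_, ?_⟩ ⟨?_, ?_, ?_⟩ ⟨?_, ?_, ?_⟩ ⟨?_, ?_, ?_⟩
  · refine (hne 0 0).2 ?_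
    rw [Fin.val_zero, pow_zero, ← eb, ← hga, map_mul, map_mul, hφ (h0.trans (map_one φ).symm), map_one, mul_one,
      map_inv, mul_inv_cancel]
  · refine (hne ⟨k % 5, Nat.mod_lt _ (by norm_num)⟩ 0).2 ?_
    have h1 : φ b = φ (a ^ k) := Subtype.ext (by
      rw [map_pow, SubmonoidClass.coe_pow, hcb, hca, ← map_pow]
      exact tH_eq_of_vec cert7 cart_lin hζ hvb (e ▸ hva.pow cert7 hζ k))
    rw [← eb, hφ h1, map_pow, ea]
    exact fold_pow hfA k
  · refine (hne ⟨p % 5, Nat.mod_lt _ (by norm_num)⟩ ⟨q % 5, Nat.mod_lt _ (by norm_num)⟩).1 ?_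
    have h1 : φ c = φ (a ^ p * b ^ q) := Subtype.ext (by
      rw [map_mul, map_pow, map_pow, Subgroup.coe_mul, SubmonoidClass.coe_pow, SubmonoidClass.coe_pow, hcb, hca, hcc,
        ← map_pow, ← map_pow, ← map_mul]
      exact tH_eq_of_vec cert7 cart_lin hζ hvc (e ▸ (hva.pow cert7 hζ p).mul cert7 hζ (hvb.pow cert7 hζ q)))
    rw [← ec, hφ h1, map_mul, map_pow, map_pow, ea, eb, fold_pow hfA p, fold_pow hfB q]
  · exact h0act (φ a) (φ a) ca ca va va 2 3 hca hva hca hva
      (by rw [← map_inv, ← map_mul, ← map_mul, h0a, map_pow]) units5.1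
  · exact h0act (φ b) (φ b) cb cb vb vb 2 3 hcb hvb hcb hvb
      (by rw [← map_inv, ← map_mul, ← map_mul, h0b, map_pow]) units5.1
  · simpa using h0act (φ c) (φ c) cc cc vc vc 1 1 hcc hvc hcc hvc
      (by rw [← map_inv, ← map_mul, ← map_mul, h0c, pow_one]) (by simp)
  · simpa using h1act (φ a) (φ a) ca ca va va 1 1 hca hva hca hva
      (by rw [← map_inv, ← map_mul, ← map_mul, h1a, pow_one]) (by simp)
  · exact h1act (φ b) (φ b) cb cb vb vb 2 3 hcb hvb hcb hvb
      (by rw [← map_inv, ← map_mul, ← map_mul, h1b, map_pow]) units5.1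
  · exact h1act (φ c) (φ c) cc cc vc vc 2 3 hcc hvc hcc hvc
      (by rw [← map_inv, ← map_mul, ← map_mul, h1c, map_pow]) units5.1
  · exact h2act (φ a) (φ a) ca ca va va 4 4 hca hva hca hva
      (by rw [← map_inv, ← map_mul, ← map_mul, h2a, map_pow]) units5.2
  · simpa using h2act (φ b) (φ b) cb cb vb vb 1 1 hcb hvb hcb hvb
      (by rw [← map_inv, ← map_mul, ← map_mul, h2b, pow_one]) (by simp)
  · simpa using h2act (φ c) (φ c) cc cc vc vc 1 1 hcc hvc hcc hvc
      (by rw [← map_inv, ← map_mul, ← map_mul, h2c, pow_one]) (by simp)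
  · exact hgact (φ b) (φ a) cb ca vb va 2 3 hcb hvb hca hva
      (by rw [← map_inv, ← map_mul, ← map_mul, hgb, map_pow]) units5.1
  · simpa using hgact (φ a) (φ b) ca cb va vb 1 1 hca hva hcb hvb
      (by rw [← map_inv, ← map_mul, ← map_mul, hga, pow_one]) (by simp)
  · simpa using hgact (φ c) (φ c) cc cc vc vc 1 1 hcc hvc hcc hvc
      (by rw [← map_inv, ← map_mul, ← map_mul, hgc, pow_one]) (by simp)

/-- The bound on the degree of an alternating section. -/
theorem degree_bound (p : ℕ) [Fact p.Prime] [CharP F p] (r : ℕ) {H : Type*} [Group H] [Finite H] (f : H →* G7)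
    (hf : Function.Injective f) (π : H →* ↥(alternatingGroup (Fin r))) (hπ : Function.Surjective π) :
    r ≤ 13 + (if p = 7 then 1 else 0) := by
  by_contra hlt
  obtain ⟨k, hp', hkF⟩ := FiniteField.card F p
  by_cases h : p = 7
  · subst h
    rw [if_pos rfl] at hlt
    obtain ⟨H', π', hπ'⟩ := Cfsg.Lib.Chev.AltSection.exists_subsection (m := 15) (by omega) π hπ
    obtain ⟨E, _, _, g, hg, hE⟩ := Cfsg.Lib.Chev.AltSection.exists_extension (D := chevE7) cert7 7 100 (F := F)
    refine no_A15 (F := E) ?_ (g.comp (f.comp H'.subtype)) (hg.comp (hf.comp H'.subtype_injective)) π' hπ'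
    rw [hE, Nat.card_eq_fintype_card, hkF, ← pow_mul, mul_comm, pow_mul]
    have hm : (7 ^ 100 : ℕ) % 5 ^ 3 = 1 := by decide +kernel
    rw [Nat.pow_mod, hm, one_pow, Nat.one_mod_eq_one.2 (by norm_num)]
  · rw [if_neg h] at hlt
    obtain ⟨H', π', hπ'⟩ := Cfsg.Lib.Chev.AltSection.exists_subsection (m := 14) (by omega) π hπ
    obtain ⟨E, _, _, g, hg, hE⟩ := Cfsg.Lib.Chev.AltSection.exists_extension (D := chevE7) cert7 p 294 (F := F)
    refine no_A14 (F := E) ?_ (g.comp (f.comp H'.subtype)) (hg.comp (hf.comp H'.subtype_injective)) π' hπ'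
    rw [hE, Nat.card_eq_fintype_card, hkF, show (294 : ℕ) = Nat.totient (7 ^ 3) by
      rw [Nat.totient_prime_pow (by norm_num) (by norm_num)]; norm_num]
    have hc : Nat.Coprime (p ^ (k : ℕ)) (7 ^ 3) :=
      Nat.Coprime.pow _ _ ((Nat.coprime_primes hp' (by norm_num : Nat.Prime 7)).2 h)
    exact Nat.ModEq.pow_totient hc

end Cfsg.Lib.Chev.E7Alt
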