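import Cfsg.Agent.Lib.Chev.E7Alt.Coord

/-!
Sorted coordinate lists of toral vectors of type E7.
-/

set_option autoImplicit false

namespace Cfsg.Lib.Chev.E7Alt

open Cfsg.Lie Cfsg.Lib.Chev.AltSection

variable {ℓ : ℕ} [hℓ : Fact ℓ.Prime] {ι : ZMod ℓ}

theorem bC_sum : ∀ k : Fin chevE7.rank, (∑ i : Fin 8, bC i k) = 0 := by
  show ∀ k : Fin 7, _
  decide +kernel

theorem clist_length (v : Vt (ZMod ℓ)) : (clist ι v).length = 8 := by simp [clist]

theorem clist_sum (v : Vt (ZMod ℓ)) : (clist ι v).sum % ℓ = 0 := by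
  rw [← ZMod.val_natCast, ZMod.val_eq_zero]
  have h : ∑ i : Fin 8, cA ι v i = 0 := by
    simp only [cA, ← Finset.mul_sum]
    rw [Finset.sum_comm, Finset.sum_eq_zero, mul_zero]
    intro k _
    rw [← Finset.sum_mul, ← Int.cast_sum, bC_sum, Int.cast_zero, zero_mul]
  rw [← h]
  simp [clist, List.range_succ, Fin.sum_univ_eight]
  ring

theorem clist_inj (hι : ι * 8 = 1) {v w : Vt (ZMod ℓ)} (h : clist ι v = clist ι w) : v = w := by
  rw [← vecL_clist hι v, ← vecL_clist hι w, h]

theorem clist_ne_zero (hι : ι * 8 = 1) {v : Vt (ZMod ℓ)} (hv : v ≠ 0) : clist ι v ≠ List.replicate 8 0 := fun h => hv (by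
  rw [← vecL_clist hι v, h]
  funext k
  simp only [vecL]
  refine Finset.sum_eq_zero fun i _ => ?_
  rw [show (List.replicate 8 0).getD (i : ℕ) 0 = 0 from by fin_cases i <;> rfl]
  simp)

/-- The sorted list of a vector. -/
theorem exists_sorted_one (v : Vt (ZMod ℓ)) :
    ∃ u, IsWord chevE7 u ∧ (clist ι (act7 u v)).Perm (clist ι v) ∧
      clist ι (act7 u v) ∈ (incs ℓ 8 0).filter fun a => decide (a.sum % ℓ = 0) := by
  obtain ⟨u, hu, σ, hσ, hord⟩ := exists_sorted ι [v] fun l => code ℓ (l.map ZMod.val)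
  refine ⟨u, hu, clist_perm (σ := σ) fun i => hσ v (List.mem_singleton_self v) i,
    List.mem_filter.2 ⟨mem_incs 8 0 _ (fun i _ => ⟨Nat.zero_le _, ZMod.val_lt _⟩) fun i hi => ?_,
      decide_eq_true (clist_sum _)⟩⟩
  simpa [code] using hord ⟨i, by omega⟩

/-- A list sorted along a permutation of a sorted list is that list. -/
theorem eq_of_sorted_perm {a b : List ℕ} (h : a.Perm b) (ha : a.Pairwise (· ≤ ·)) (hb : b.Pairwise (· ≤ ·)) : a = b :=
  h.eq_of_pairwise (fun _ _ _ _ h1 h2 => le_antisymm h1 h2) ha hb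

theorem pairwise_range {f : ℕ → ℕ} {n : ℕ} (h : ∀ i, i + 1 < n → f i ≤ f (i + 1)) :
    ((List.range n).map f).Pairwise (· ≤ ·) := by
  rw [List.pairwise_map, List.pairwise_iff_getElem]
  intro i j hi hj hij
  simp only [List.getElem_range, List.length_range] at hi hj ⊢
  induction j with
  | zero => omega
  | succ j ih =>
    rcases Nat.lt_or_ge i j with h' | h'
    · refine le_trans ?_ (h j (by omega))
      apply ih <;> omega
    · obtain rfl : i = j := by omega
      exact h i (by omega)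

/-- Equal joint counts stay equal after moving by a word. -/
theorem hist_move {u : List ℕ} (hu : IsWord chevE7 u) {vs ws : List (Vt (ZMod ℓ))}
    (h : hist ℓ (vs.map (clist ι)) = hist ℓ (ws.map (clist ι))) :
    hist ℓ ((vs.map fun v => act7 u v).map (clist ι)) = hist ℓ ((ws.map fun v => act7 u v).map (clist ι)) := by
  rw [hist_act ι hu, hist_act ι hu, h]

end Cfsg.Lib.Chev.E7Alt
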