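import Cfsg.Agent.Lib.Chev.E7Alt.SevenDefs

/-!
The tests on the second vectors of order seven, part 0.
-/

set_option autoImplicit false
set_option maxRecDepth 100000

namespace Cfsg.Lib.Chev.E7Alt

theorem ok7_0 : ok7 0 = true := by decide +kernel

theorem ok7_1 : ok7 1 = true := by decide +kernel

theorem ok7_2 : ok7 2 = true := by decide +kernel

theorem ok7_3 : ok7 3 = true := by decide +kernel

theorem ok7_4 : ok7 4 = true := by decide +kernel

theorem ok7_5 : ok7 5 = true := by decide +kernel

theorem ok7_6 : ok7 6 = true := by decide +kernel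

end Cfsg.Lib.Chev.E7Alt
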