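import Cfsg.Agent.Lib.Chev.E7Alt.SevenDefs

/-!
The tests on the second vectors of order seven, part 1.
-/

set_option autoImplicit false
set_option maxRecDepth 100000

namespace Cfsg.Lib.Chev.E7Alt

theorem ok7_7 : ok7 7 = true := by decide +kernel

theorem ok7_8 : ok7 8 = true := by decide +kernel

theorem ok7_9 : ok7 9 = true := by decide +kernel

theorem ok7_10 : ok7 10 = true := by decide +kernel

theorem ok7_11 : ok7 11 = true := by decide +kernel

theorem ok7_12 : ok7 12 = true := by decide +kernel

theorem ok7_13 : ok7 13 = true := by decide +kernel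

end Cfsg.Lib.Chev.E7Alt
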