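import Cfsg.Agent.Lib.Chev.E7Alt.SevenDefs

/-!
The tests on the second vectors of order seven, part 2.
-/

set_option autoImplicit false
set_option maxRecDepth 100000

namespace Cfsg.Lib.Chev.E7Alt

theorem ok7_14 : ok7 14 = true := by decide +kernel

theorem ok7_15 : ok7 15 = true := by decide +kernel

theorem ok7_16 : ok7 16 = true := by decide +kernel

theorem ok7_17 : ok7 17 = true := by decide +kernel

theorem ok7_18 : ok7 18 = true := by decide +kernel

theorem ok7_19 : ok7 19 = true := by decide +kernel

end Cfsg.Lib.Chev.E7Alt
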