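import Cfsg.Agent.Lib.Chev.E7Alt.SevenDefs

/-!
The tests on the second vectors of order seven, part 3.
-/

set_option autoImplicit false
set_option maxRecDepth 100000

namespace Cfsg.Lib.Chev.E7Alt

theorem ok7_20 : ok7 20 = true := by decide +kernel

theorem ok7_21 : ok7 21 = true := by decide +kernel

theorem ok7_22 : ok7 22 = true := by decide +kernel

theorem ok7_23 : ok7 23 = true := by decide +kernel

theorem ok7_24 : ok7 24 = true := by decide +kernel

theorem ok7_25 : ok7 25 = true := by decide +kernel

end Cfsg.Lib.Chev.E7Alt
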