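import Cfsg.Agent.Lib.Chev.E7Alt.Normal
import Cfsg.Agent.Lib.Chev.E7Alt.SevenY0
import Cfsg.Agent.Lib.Chev.E7Alt.SevenY1
import Cfsg.Agent.Lib.Chev.E7Alt.SevenY2
import Cfsg.Agent.Lib.Chev.E7Alt.SevenY3

/-!
No two independent toral vectors of order seven are exchanged up to a factor of three by a word while another
word squares one and fixes the other.
-/

set_option autoImplicit false
set_option maxRecDepth 100000

namespace Cfsg.Lib.Chev.E7Alt

open Cfsg.Lie Cfsg.Lib.Chev.AltSection

local instance factSeven : Fact (Nat.Prime 7) := ⟨by norm_num⟩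

/-- The test on a first vector of order seven. -/
noncomputable def okX7 (a : List ℕ) : Bool :=
  !(Nat.beq (a.sum % 7) 0) || !(Nat.beq (histF 7 [sclL 7 5 a]) (histF 7 [a])) ||
    decide (a ∈ List.replicate 8 0 :: word7.map fun e => e.1)

theorem okX7_all : (incs 7 8 0).all okX7 = true := by decide +kernel

theorem x7_chk : ∀ a ∈ (incs 7 8 0).filter (fun a => decide (a.sum % 7 = 0)),
    a = List.replicate 8 0 ∨ hist 7 [sclL 7 5 a] ≠ hist 7 [a] ∨ a ∈ word7.map fun e => e.1 := by
  intro a ha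
  obtain ⟨h1, h2⟩ := List.mem_filter.1 ha
  have h := List.all_eq_true.1 okX7_all a h1
  rw [decide_eq_true_eq] at h2
  simp only [okX7, h2, Bool.or_eq_true, decide_eq_true_eq, List.mem_cons] at h
  rcases h with (h | h) | h | h
  · exact absurd h (by decide)
  · refine Or.inr (Or.inl fun e => ?_)
    rw [hist_eq_fast, hist_eq_fast] at e
    rw [e] at h
    simp at h
  · exact Or.inl h
  · exact Or.inr (Or.inr h)

theorem word7_chk : ∀ e ∈ word7, e.2.1 ∈ rep7 ∧ (∀ i ∈ e.2.2, i < chevE7.rank) ∧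
    clist (1 : ZMod 7) (act7 e.2.2 (vecL 7 e.1)) = e.2.1 := by
  show ∀ e ∈ word7, e.2.1 ∈ rep7 ∧ (∀ i ∈ e.2.2, i < 7) ∧ _
  decide +kernel

theorem rep7_sorted : ∀ r ∈ rep7, r.Pairwise (· ≤ ·) := by decide +kernel

theorem rep7_unique : ∀ e ∈ word7, ∀ r ∈ rep7, histF 7 [e.1] = histF 7 [r] → r = e.2.1 := by
  decide +kernel

theorem word7_len : word7.length = 26 := by decide +kernel

theorem ok7_all : ∀ i < 26, ok7 i = true := by
  intro i hi
  interval_cases i
  · exact ok7_0
  · exact ok7_1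
  · exact ok7_2
  · exact ok7_3
  · exact ok7_4
  · exact ok7_5
  · exact ok7_6
  · exact ok7_7
  · exact ok7_8
  · exact ok7_9
  · exact ok7_10
  · exact ok7_11
  · exact ok7_12
  · exact ok7_13
  · exact ok7_14
  · exact ok7_15
  · exact ok7_16
  · exact ok7_17
  · exact ok7_18
  · exact ok7_19
  · exact ok7_20
  · exact ok7_21
  · exact ok7_22
  · exact ok7_23
  · exact ok7_24
  · exact ok7_25

theorem y7_chk {r : List ℕ} (hr : r ∈ rep7) {a : List ℕ} (ha : a ∈ word7.map fun e => e.1)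
    (he : hist 7 [a] = hist 7 [r]) : allFill (okY7 r) r a 7 0 [] = true := by
  obtain ⟨e, hmem, rfl⟩ := List.mem_map.1 ha
  rw [hist_eq_fast, hist_eq_fast] at he
  rw [rep7_unique e hmem r hr he]
  obtain ⟨i, hi, rfl⟩ := List.getElem_of_mem hmem
  have := ok7_all i (word7_len ▸ hi)
  simpa only [ok7, List.getD_eq_getElem _ _ hi] using this

attribute [local irreducible] hist histF cA incs word7 rep7 pL

/-- The count conditions on a pair of vectors. -/
def Cond7 (x y : Vt (ZMod 7)) : Prop :=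
  (x ≠ 0 ∧ ∀ k : ℕ, y ≠ (k : ZMod 7) • x) ∧
    hist 7 ([((4 : ℕ) : ZMod 7) • x, y].map (clist 1)) = hist 7 ([x, y].map (clist 1)) ∧
    hist 7 ([((5 : ℕ) : ZMod 7) • y, x].map (clist 1)) = hist 7 ([x, y].map (clist 1)) ∧
    hist 7 ([((5 : ℕ) : ZMod 7) • x].map (clist 1)) = hist 7 ([x].map (clist 1)) ∧
    hist 7 ([((5 : ℕ) : ZMod 7) • y].map (clist 1)) = hist 7 ([y].map (clist 1)) ∧
    hist 7 ([y].map (clist 1)) = hist 7 ([x].map (clist 1))

theorem Cond7.move {x y : Vt (ZMod 7)} (h : Cond7 x y) {u : List ℕ} (hu : IsWord chevE7 u) :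
    Cond7 (act7 u x) (act7 u y) := by
  obtain ⟨⟨hx, h0⟩, h1, h2, h3, h5, h4⟩ := h
  refine ⟨⟨fun e => hx (act_injective cert7 hu (e.trans (funext fun k => (val_zero _).symm))),
    fun k e => h0 k (act_injective cert7 hu (e.trans (act_smul _ _ _).symm))⟩, ?_, ?_, ?_, ?_, hist_move hu h4⟩
  · rw [← show act7 u (((4 : ℕ) : ZMod 7) • x) = ((4 : ℕ) : ZMod 7) • act7 u x from act_smul _ _ _]
    exact hist_move hu h1
  · rw [← show act7 u (((5 : ℕ) : ZMod 7) • y) = ((5 : ℕ) : ZMod 7) • act7 u y from act_smul _ _ _]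
    exact hist_move hu h2
  · rw [← show act7 u (((5 : ℕ) : ZMod 7) • x) = ((5 : ℕ) : ZMod 7) • act7 u x from act_smul _ _ _]
    exact hist_move hu h3
  · rw [← show act7 u (((5 : ℕ) : ZMod 7) • y) = ((5 : ℕ) : ZMod 7) • act7 u y from act_smul _ _ _]
    exact hist_move hu h5

theorem not_cond7 {x y : Vt (ZMod 7)} (h : Cond7 x y) : False := by
  have hι : (1 : ZMod 7) * 8 = 1 := by decide
  -- the first vector
  obtain ⟨u, hu, hr⟩ : ∃ u, IsWord chevE7 u ∧ clist 1 (act7 u x) ∈ rep7 := by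
    have hx0 : x ≠ 0 := h.1.1
    obtain ⟨u, hu, -, hmem⟩ := exists_sorted_one (ι := (1 : ZMod 7)) x
    have hm := (h.move hu).2.2.2.1
    simp only [List.map_cons, List.map_nil, clist_smul] at hm
    rcases x7_chk _ hmem with e | e | e
    · exact absurd e (clist_ne_zero hι fun e0 => hx0 (act_injective cert7 hu (e0.trans
        (funext fun k => (val_zero _).symm))))
    · exact absurd hm e
    · obtain ⟨w, hw, hwe⟩ := List.mem_map.1 e
      obtain ⟨h1, h2, h3⟩ := word7_chk w hw
      refine ⟨u ++ w.2.2, hu.append h2, ?_⟩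
      rw [show act7 (u ++ w.2.2) x = act7 w.2.2 (act7 u x) from act_append cert7 hu h2 x,
        ← vecL_clist hι (act7 u x), ← hwe, h3]
      exact h1
  have h := h.move hu
  generalize act7 u x = x' at h hr
  generalize act7 u y = y' at h
  -- the second vector
  obtain ⟨u, hu, σ, hσ, hord⟩ := exists_sorted (1 : ZMod 7) [y', x'] fun l => code 7 (l.map ZMod.val)
  have hkey : ∀ i, i + 1 < 8 → (cA 1 (act7 u y') i).val + 7 * (cA 1 (act7 u x') i).val ≤
      (cA 1 (act7 u y') (i + 1)).val + 7 * (cA 1 (act7 u x') (i + 1)).val := fun i hi => by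
    simpa [code] using hord ⟨i, by omega⟩
  have hX : clist 1 (act7 u x') = clist 1 x' := by
    refine eq_of_sorted_perm (clist_perm (σ := σ) fun i => hσ x' (by simp) i)
      (pairwise_range fun i hi => ?_) (rep7_sorted _ hr)
    have := hkey i hi
    have := ZMod.val_lt (cA 1 (act7 u y') i)
    have := ZMod.val_lt (cA 1 (act7 u y') (i + 1))
    omega
  have h := h.move hu
  rw [← hX] at hr
  generalize act7 u x' = X at h hr hkey
  generalize act7 u y' = Y at h hkey
  obtain ⟨v, hv, hperm, hmem⟩ := exists_sorted_one (ι := (1 : ZMod 7)) Y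
  obtain ⟨⟨hX0, hne⟩, c1, c2, c3, c5, c4⟩ := h
  have hY0 : Y ≠ 0 := fun e => hne 0 (by rw [e, Nat.cast_zero, zero_smul])
  have e4 : hist 7 [clist 1 (act7 v Y)] = hist 7 [clist 1 X] :=
    (hist_act (1 : ZMod 7) hv [Y]).trans c4
  have e5 : hist 7 [sclL 7 5 (clist 1 (act7 v Y))] = hist 7 [clist 1 (act7 v Y)] := by
    have := hist_move hv c5
    simp only [List.map_cons, List.map_nil] at this
    rw [show act7 v (((5 : ℕ) : ZMod 7) • Y) = ((5 : ℕ) : ZMod 7) • act7 v Y from act_smul _ _ _, clist_smul] at this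
    exact this
  rcases x7_chk _ hmem with e | e | e
  · exact clist_ne_zero hι (fun e0 => hY0 (act_injective cert7 hv (e0.trans
      (funext fun k => (val_zero _).symm)))) e
  · exact e e5
  have hok := y7_chk hr e e4
  have h' : okY7 (clist 1 X) (clist 1 Y) = true := by
    revert hok
    generalize clist 1 (act7 v Y) = av at hperm
    intro hok
    unfold clist at hok hperm ⊢
    rw [List.range_eq_range'] at hok hperm ⊢
    simpa using allFill_spec 8 0 _ _ _ 7 0 [] hok hperm.symm (fun _ _ => Nat.zero_le _) fun i _ hi e => by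
      have := hkey i (by omega)
      omega
  simp only [okY7, Bool.or_eq_true, List.any_eq_true, decide_eq_true_eq, List.mem_range] at h'
  rcases h' with (hk | hk) | ⟨k, -, hk⟩
  · simp only [List.map_cons, List.map_nil, clist_smul, hist_eq_fast] at c1
    rw [c1] at hk
    simp at hk
  · simp only [List.map_cons, List.map_nil, clist_smul, hist_eq_fast] at c2
    rw [c2] at hk
    simp at hk
  · exact hne k (clist_inj hι (by rw [clist_smul]; exact hk))

/-- The obstruction for two elements of order seven. -/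
theorem no_seven {x y : Vt (ZMod 7)} (hne : ∀ k : ℕ, y ≠ (k : ZMod 7) • x) {g h : List ℕ}
    (hg : IsWord chevE7 g) (hh : IsWord chevE7 h) (gy : act7 g y = x) (gx : act7 g x = ((5 : ℕ) : ZMod 7) • y)
    (hx : act7 h x = ((4 : ℕ) : ZMod 7) • x) (hy : act7 h y = y) : False := by
  refine not_cond7 (x := x) (y := y) ⟨⟨fun e0 => ?_, hne⟩, ?_, ?_, ?_, ?_, ?_⟩
  · refine hne 0 ?_
    rw [e0, smul_zero]
    exact act_injective cert7 hg (gy.trans (e0.trans (funext fun k => (val_zero _).symm)))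
  · simpa [hx, hy] using hist_act (1 : ZMod 7) hh [x, y]
  · simpa [gx, gy] using hist_act (1 : ZMod 7) hg [x, y]
  · have e : act7 (g ++ g) x = ((5 : ℕ) : ZMod 7) • x := by
      rw [show act7 (g ++ g) x = act7 g (act7 g x) from act_append cert7 hg hg x, gx,
        show act7 g (((5 : ℕ) : ZMod 7) • y) = ((5 : ℕ) : ZMod 7) • act7 g y from act_smul _ _ _, gy]
    simpa [e] using hist_act (1 : ZMod 7) (hg.append hg) [x]
  · have e : act7 (g ++ g) y = ((5 : ℕ) : ZMod 7) • y := by
      rw [show act7 (g ++ g) y = act7 g (act7 g y) from act_append cert7 hg hg y, gy, gx]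
    simpa [e] using hist_act (1 : ZMod 7) (hg.append hg) [y]
  · simpa [gy] using (hist_act (1 : ZMod 7) hg [y]).symm

end Cfsg.Lib.Chev.E7Alt
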