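import Cfsg.Agent.Lib.Chev.E7Alt.Count

/-!
The test on a second vector of order seven.
-/

set_option autoImplicit false

namespace Cfsg.Lib.Chev.E7Alt

/-- The second vector fails the count conditions. -/
noncomputable def okY7 (r y : List ℕ) : Bool :=
  !(Nat.beq (histF 7 [sclL 7 4 r, y]) (histF 7 [r, y])) || !(Nat.beq (histF 7 [sclL 7 5 y, r]) (histF 7 [r, y])) ||
    (List.range 7).any fun k => decide (y = sclL 7 k r)

/-- All arrangements with a given sorted list fail. -/
noncomputable def ok7 (i : ℕ) : Bool :=
  allFill (okY7 (word7.getD i ([], [], [])).2.1) (word7.getD i ([], [], [])).2.1 (word7.getD i ([], [], [])).1 7 0 []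

end Cfsg.Lib.Chev.E7Alt
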